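import Cfsg.Agent.Lib.CharDeg.MinNonab
import Cfsg.Agent.Lib.CharDeg.Broline

/-! Tools for Garrison's theorem (four character degrees): permutation characters and
`p`-parts of degrees. -/

set_option autoImplicit false

namespace Cfsg.Lib.Gar
open Cfsg.Lib.Char Cfsg.Lib.CharDeg Cfsg.Lib.Clifford Cfsg.Lib.Induce Cfsg.Lib.Core Subgroup
open scoped commutatorElement ComplexConjugate

noncomputable scoped instance finSub {G : Type*} [Group G] [Finite G] (H : Subgroup G) :
    Fintype H := Fintype.ofFinite H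

variable {G : Type*} [Group G] [Fintype G]

/-- `N` lies in the kernel of `χ`. -/
abbrev Kr (χ : G → ℂ) (N : Subgroup G) : Prop := ∀ x ∈ N, χ x = χ 1

/-- `χ` lies over `θ`. -/
abbrev ov (N : Subgroup G) (χ : G → ℂ) (θ : N → ℂ) : Prop :=
  classInner (fun n : N => χ n) θ ≠ 0

/-- A homomorphism to `ℂˣ` as a function. -/
abbrev ln {N : Type*} [Group N] (μ : N →* ℂˣ) : N → ℂ := fun n => (μ n : ℂ)

theorem card_rel (H K : Subgroup G) : Nat.card (H ⊓ K : Subgroup G) * H.relIndex K = Nat.card K := by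
  have h := (H.subgroupOf K).card_mul_index
  rw [← inf_subgroupOf_right, Nat.card_congr (subgroupOfEquivOfLe inf_le_right).toEquiv,
    inf_subgroupOf_right] at h
  exact h

theorem idx_eq (T L : Subgroup G) [L.Normal] : T.index = (T ⊔ L).index * T.relIndex L := by
  have h1 := card_rel T L
  have h2 := card_rel L T
  have h3 := card_rel L (T ⊔ L)
  rw [relIndex_sup_right, inf_eq_left.2 le_sup_right] at h3
  rw [inf_comm] at h2
  have h4 := T.card_mul_index
  have h5 := (T ⊔ L).card_mul_index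
  have h6 : 0 < Nat.card T := Nat.card_pos
  refine Nat.eq_of_mul_eq_mul_left h6 ?_
  rw [h4, ← h5, ← h3, ← h1, ← h2]; ring

theorem rel_dvd (T L : Subgroup G) [L.Normal] : T.relIndex L ∣ T.index :=
  ⟨_, by rw [idx_eq T L, mul_comm]⟩

theorem sum_inf (T L : Subgroup G) {θ : G → ℂ} (h : ∀ g, g ∉ L → θ g = 0) :
    ∑ t : T, θ t = ∑ t : (T ⊓ L : Subgroup G), θ t := by
  classical
  have e : ∀ H : Subgroup G, ∑ t : H, θ t = ∑ g, if g ∈ H then θ g else 0 := fun H => by
    rw [← Finset.sum_filter]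
    exact (Finset.sum_subtype _ (by simp) θ).symm
  rw [e, e]
  refine Finset.sum_congr rfl fun g _ => ?_
  by_cases h1 : g ∈ L
  · simp [h1]
  · simp [h1, h g h1]

theorem deg_ind (T : Subgroup G) {θ : T → ℂ} (h : IsCharacter T θ) :
    charDegree (indFun T θ) = T.index * charDegree θ := by
  refine charDegree_eq_of_apply_one ?_
  rw [indFun_one, h.apply_one_eq]; simp

omit [Fintype G] in
theorem deg_res (T : Subgroup G) (χ : G → ℂ) : charDegree (fun x : T => χ x) = charDegree χ :=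
  charDegree_congr rfl

theorem deg_sum {θ : G → ℂ} {n : IrrCharacter G → ℕ}
    (hn : θ = ∑ ψ : IrrCharacter G, (n ψ : ℂ) • (ψ : G → ℂ)) :
    charDegree θ = ∑ ψ : IrrCharacter G, n ψ * charDegree (ψ : G → ℂ) := by
  refine charDegree_eq_of_apply_one ?_
  rw [hn, Finset.sum_apply, Nat.cast_sum]
  exact Finset.sum_congr rfl fun ψ _ => by rw [Pi.smul_apply, ψ.2.apply_one_eq]; simp

theorem ex_const {θ : G → ℂ} (hθ : IsCharacter G θ) {m k : ℕ} (h : ¬ m ∣ k * charDegree θ) :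
    ∃ χ, IsIrrCharacter G χ ∧ classInner θ χ ≠ 0 ∧ ¬ m ∣ k * charDegree χ := by
  by_contra hcon
  push Not at hcon
  obtain ⟨n, hn⟩ := hθ.exists_eq_sum_nat
  refine h ?_
  rw [deg_sum hn, Finset.mul_sum]
  refine Finset.dvd_sum fun ψ _ => ?_
  by_cases h0 : n ψ = 0
  · simp [h0]
  · rw [mul_left_comm]
    refine Dvd.dvd.mul_left (hcon _ ψ.2 ?_) _
    rw [hn, classInner_sum_smul_irr]
    exact_mod_cast h0

/-- Frobenius reciprocity for constituents. -/
theorem ov_iff {T : Subgroup G} {θ : T → ℂ} {χ : G → ℂ} (hχ : IsClassFunction G χ) :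
    classInner (indFun T θ) χ ≠ 0 ↔ ov T χ θ := by
  rw [frobenius_reciprocity T θ hχ]
  exact not_congr classInner_eq_zero_comm

/-- An irreducible character over `θ` with degree not divisible by `m`. -/
theorem ex_over (T : Subgroup G) {θ : T → ℂ} (hθ : IsCharacter T θ) {m : ℕ}
    (h : ¬ m ∣ T.index * charDegree θ) :
    ∃ χ, IsIrrCharacter G χ ∧ ov T χ θ ∧ ¬ m ∣ charDegree χ := by
  obtain ⟨χ, h1, h2, h3⟩ := exists_constituent_not_dvd (isCharacter_indFun T hθ) (p := m)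
    (by rwa [deg_ind T hθ])
  exact ⟨χ, h1, (ov_iff h1.isClassFunction).1 h2, h3⟩

theorem inner_res_one {ψ : G → ℂ} (L : Subgroup G) (h : Kr ψ L) :
    classInner (fun l : L => ψ l) (fun _ => 1) = ψ 1 := by
  rw [classInner_one_right, Finset.sum_congr rfl fun (l : L) _ => h l l.2]
  have := card_ne_zero_complex L
  simp only [Finset.sum_const, Finset.card_univ, nsmul_eq_mul, ← Nat.card_eq_fintype_card]
  field_simp

theorem inner_perm (T L : Subgroup G) [L.Normal] :
    classInner (fun l : L => indFun T (fun _ => 1) l) (fun _ => 1) = (T ⊔ L).index := by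
  rw [← frobenius_reciprocity' L _ (isClassFunction_indFun T _),
    (isCharacter_indFun T isCharacter_one).inner_comm (isCharacter_indFun L isCharacter_one),
    frobenius_reciprocity' T _ (isClassFunction_indFun L _), classInner_one_right,
    sum_inf T L fun g hg => indFun_normal_of_not_mem L _ hg,
    Finset.sum_congr rfl fun (t : (T ⊓ L : Subgroup G)) _ =>
      indFun_normal_apply_of_invariant L (fun _ => (1 : ℂ)) (fun _ _ => rfl) ⟨t, (mem_inf.1 t.2).2⟩]
  simp only [Finset.sum_const, Finset.card_univ, nsmul_eq_mul, ← Nat.card_eq_fintype_card, mul_one]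
  have h1 := idx_eq T L
  have h2 := card_rel T L
  have h4 := T.card_mul_index
  have h5 := L.card_mul_index
  have h0 : T.relIndex L ≠ 0 := fun e => by
    rw [e, mul_zero] at h2; exact Nat.card_pos.ne h2
  have : Nat.card (T ⊓ L : Subgroup G) * L.index = Nat.card T * (T ⊔ L).index := by
    refine Nat.eq_of_mul_eq_mul_right (Nat.pos_of_ne_zero h0) ?_
    rw [mul_assoc _ (T ⊔ L).index, ← h1, h4, mul_right_comm, h2, h5]
  have h6 := card_ne_zero_complex T
  rw [← Nat.cast_mul, this]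
  push_cast
  field_simp

/-- The part of a permutation character not killing `L` has a constituent of small `p`-part. -/
theorem perm (T L : Subgroup G) [L.Normal] {p e : ℕ} (hp : p.Prime)
    (h : ∀ ψ, IsIrrCharacter G ψ → ov T ψ (fun _ => 1) → ¬ Kr ψ L → p ^ e ∣ charDegree ψ)
    (h2 : ¬ p ^ (e + 1) ∣ T.index) : ¬ p ∣ T.relIndex L := by
  classical
  intro hr
  obtain ⟨n, hn⟩ := (isCharacter_indFun T (isCharacter_one (G := T))).exists_eq_sum_nat
  have h1 := deg_sum hn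
  rw [deg_ind T isCharacter_one, charDegree_one, mul_one] at h1
  have h3 : (T ⊔ L).index = ∑ ψ : IrrCharacter G,
      if Kr (ψ : G → ℂ) L then n ψ * charDegree (ψ : G → ℂ) else 0 := by
    have h4 := inner_perm T L
    have h5 : (fun l : L => indFun T (fun _ => (1 : ℂ)) l) =
        ∑ ψ : IrrCharacter G, (n ψ : ℂ) • fun l : L => (ψ : G → ℂ) l := by
      funext l
      rw [hn, Finset.sum_apply, Finset.sum_apply]; rfl
    rw [h5, classInner_sum_left] at h4
    refine Nat.cast_injective (R := ℂ) ?_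
    rw [← h4, Nat.cast_sum]
    refine Finset.sum_congr rfl fun ψ _ => ?_
    rw [classInner_smul_left]
    split_ifs with hk
    · rw [inner_res_one L hk, ψ.2.apply_one_eq]; simp
    · rw [not_not.1 (mt (classInner_res_one_ne_zero_iff L ψ.2).1 hk)]; simp
  have h4 : p ^ e ∣ ∑ ψ : IrrCharacter G,
      if Kr (ψ : G → ℂ) L then 0 else n ψ * charDegree (ψ : G → ℂ) := by
    refine Finset.dvd_sum fun ψ _ => ?_
    split_ifs with hk
    · exact dvd_zero _
    · by_cases h0 : n ψ = 0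
      · simp [h0]
      · refine Dvd.dvd.mul_left (h _ ψ.2 ((ov_iff ψ.2.isClassFunction).1 ?_) hk) _
        rw [hn, classInner_sum_smul_irr]
        exact_mod_cast h0
  have h5 : T.index = (T ⊔ L).index + ∑ ψ : IrrCharacter G,
      if Kr (ψ : G → ℂ) L then 0 else n ψ * charDegree (ψ : G → ℂ) := by
    rw [h1, h3, ← Finset.sum_add_distrib]
    exact Finset.sum_congr rfl fun ψ _ => by split_ifs <;> simp
  obtain ⟨s, hs⟩ := h4
  obtain ⟨r, hr⟩ := hr
  have h6 := idx_eq T L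
  rw [hr] at h6
  set m := (T ⊔ L).index
  have hr0 : r ≠ 0 := fun e => by
    rw [e, mul_zero, mul_zero] at h6; exact T.index_ne_zero_of_finite h6
  have h7 : p ^ e ∣ m * (p * r - 1) := by
    refine ⟨s, ?_⟩
    rw [Nat.mul_sub_one, ← h6, h5, hs]; simp
  have h8 : (p ^ e).Coprime (p * r - 1) := by
    refine Nat.Coprime.pow_left _ ((Nat.Prime.coprime_iff_not_dvd hp).2 fun hd => ?_)
    have : p ∣ p * r - (p * r - 1) := Nat.dvd_sub (dvd_mul_right _ _) hd
    have h9 : 1 ≤ p * r := Nat.pos_of_ne_zero (mul_ne_zero hp.ne_zero hr0)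
    rw [Nat.sub_sub_self h9] at this
    exact hp.one_lt.ne' (Nat.dvd_one.1 this)
  obtain ⟨u, hu⟩ := h8.dvd_of_dvd_mul_right h7
  exact h2 ⟨u * r, by rw [h6, hu]; ring⟩

/-- Constituents of a permutation character kill the core. -/
theorem kr_of_ov_one {T F : Subgroup G} [F.Normal] (hF : F ≤ T) {ψ : G → ℂ}
    (hψ : IsIrrCharacter G ψ) (h : ov T ψ (fun _ => 1)) : Kr ψ F := fun _ hx =>
  (isCharacter_indFun T isCharacter_one).apply_eq_of_constituent hψ
    ((ov_iff hψ.isClassFunction).2 h)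
    (indFun_apply_eq_apply_one_of_normal T _ F hF (fun _ _ => rfl) hx)

/-- Invariance lemma. -/
theorem le_of_pp {F L T : Subgroup G} [F.Normal] [L.Normal] (hF : F ≤ T) {p e k : ℕ}
    (hp : p.Prime) (hk : F.relIndex L = p ^ k)
    (h : ∀ ψ, IsIrrCharacter G ψ → Kr ψ F → ¬ Kr ψ L → p ^ e ∣ charDegree ψ)
    (h2 : ¬ p ^ (e + 1) ∣ T.index) : L ≤ T := by
  have h1 := perm T L hp (fun ψ a b c => h ψ a (kr_of_ov_one hF a b) c) h2
  have h3 : T.relIndex L ∣ p ^ k := hk ▸ relIndex_dvd_of_le_left L hF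
  obtain ⟨j, -, hj⟩ := (Nat.dvd_prime_pow hp).1 h3
  rcases j with _ | j
  · exact relIndex_eq_one.1 hj
  · exact absurd (hj ▸ dvd_pow_self p j.succ_ne_zero) h1

theorem le_of_cop {F L T : Subgroup G} [L.Normal] (hF : F ≤ T)
    (h : (F.relIndex L).Coprime T.index) : L ≤ T :=
  relIndex_eq_one.1 (Nat.eq_one_of_dvd_coprimes h (relIndex_dvd_of_le_left L hF) (rel_dvd T L))

theorem kr_comm {χ : G → ℂ} (hχ : IsCharacter G χ) (h : charDegree χ = 1) :
    Kr χ (_root_.commutator G) := by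
  obtain ⟨μ, rfl⟩ := hχ.exists_hom_of_apply_one (hχ.charDegree_eq_one_iff.1 h)
  intro x hx
  have : μ x = 1 := Abelianization.commutator_subset_ker μ hx
  simp [this]

/-- Subgroups of small index contain the derived subgroup. -/
theorem comm_le {T : Subgroup G} {a : ℕ}
    (h : ∀ ψ, IsIrrCharacter G ψ → charDegree ψ < a → charDegree ψ = 1) (hT : T.index ≤ a) :
    _root_.commutator G ≤ T := by
  by_cases h0 : T = ⊤
  · exact h0 ▸ le_top
  have hc := isCharacter_indFun T (isCharacter_one (G := T))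
  refine le_trans (fun x hx => hc.mem_charKer_iff.2 ?_)
    (charKer_indFun_le T isCharacter_one one_ne_zero)
  rw [hc.isClassFunction.apply_eq_sum_irr, hc.isClassFunction.apply_eq_sum_irr 1]
  refine Finset.sum_congr rfl fun ψ _ => ?_
  by_cases h1 : classInner (indFun T fun _ => (1 : ℂ)) ψ = 0
  · simp [h1]
  · rw [kr_comm ψ.2.isCharacter (h _ ψ.2
      ((charDegree_lt_index_of_constituent h0 ψ.2 h1).trans_le hT)) x hx]

/-- Transitivity of lying over. -/
theorem ov_trans {N T : Subgroup G} (hNT : N ≤ T) {χ : G → ℂ} (hχ : IsCharacter G χ) {σ : T → ℂ}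
    (hσ : IsIrrCharacter T σ) (h : ov T χ σ) {θ : N → ℂ} (hθ : IsCharacter N θ)
    (h2 : classInner (fun n : N => σ ⟨n, hNT n.2⟩) θ ≠ 0) : ov N χ θ :=
  inner_comp_ne_zero_of_constituent (inclusion hNT) (hχ.restrict T) hσ h hθ h2

theorem kr_of_const {M T : Subgroup G} [M.Normal] (hMT : M ≤ T) {χ : G → ℂ}
    (hχ : IsIrrCharacter G χ) {σ : T → ℂ} (hσ : IsIrrCharacter T σ) (h : ov T χ σ)
    (h2 : ∀ x : T, (x : G) ∈ M → σ x = σ 1) : Kr χ M := by
  refine (classInner_res_one_ne_zero_iff M hχ).1 (ov_trans hMT hχ.isCharacter hσ h isCharacter_one ?_)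
  rw [classInner_one_right, Finset.sum_congr rfl fun (x : M) _ => h2 ⟨x, hMT x.2⟩ x.2]
  have := card_ne_zero_complex M
  have := hσ.apply_one_ne_zero
  simp only [Finset.sum_const, Finset.card_univ, nsmul_eq_mul, ← Nat.card_eq_fintype_card]
  exact mul_ne_zero (inv_ne_zero ‹_›) (mul_ne_zero ‹_› ‹_›)

theorem const_kr {M T : Subgroup G} {χ : G → ℂ} (hχ : IsCharacter G χ) (hk : Kr χ M) {σ : T → ℂ}
    (hσ : IsIrrCharacter T σ) (h : ov T χ σ) (x : T) (hx : (x : G) ∈ M) : σ x = σ 1 :=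
  (hχ.restrict T).apply_eq_of_constituent hσ h (hk x hx)

theorem not_dvd_mul {p m e n : ℕ} (hp : p.Prime) (hm : ¬ p ∣ m) (h : ¬ p ^ e ∣ n) :
    ¬ p ^ e ∣ m * n := fun hd =>
  h ((Nat.Coprime.pow_left _ ((Nat.Prime.coprime_iff_not_dvd hp).2 hm)).dvd_of_dvd_mul_left hd)

/-- Isaacs–Knutson: characters of minimal `p`-part kill `N'` for a normal `p`-subgroup `N`. -/
theorem t1 (N : Subgroup G) [N.Normal] {p e : ℕ} (hp : p.Prime) (hN : IsPGroup p N)
    (h : ∀ ψ, IsIrrCharacter G ψ → ¬ Kr ψ N → p ^ e ∣ charDegree ψ) {χ : G → ℂ}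
    (hχ : IsIrrCharacter G χ) (h2 : ¬ p ^ (e + 1) ∣ charDegree χ) : Kr χ ⁅N, N⁆ := by
  have := Fact.mk hp
  obtain ⟨P, hP⟩ := hN.exists_le_sylow
  obtain ⟨σ, hσ, h3, h4⟩ := exists_constituent_not_dvd (hχ.isCharacter.restrict (P : Subgroup G))
    (p := p ^ (e + 1)) (by rwa [deg_res])
  obtain ⟨H, μ, rfl⟩ := isMonomial_of_isPGroup P.isPGroup' hσ
  rw [deg_ind H (isCharacter_hom μ), charDegree_hom, mul_one] at h4
  obtain ⟨k, hk⟩ := hN.exists_card_eq
  have h5 : N ≤ H.map (P : Subgroup G).subtype := by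
    refine le_of_pp (F := ⊥) bot_le (k := k) hp (by rw [relIndex_bot_left, hk])
      (fun ψ a _ c => h ψ a c) ?_
    rw [index_map_subtype, mul_comm]
    exact not_dvd_mul hp P.not_dvd_index h4
  have h6 : N.subgroupOf P ≤ H := fun x hx => by
    obtain ⟨y, hy, e⟩ := h5 hx
    exact (Subtype.ext e : y = x) ▸ hy
  have hNN : ⁅N, N⁆ ≤ N := commutator_le_left N N
  refine kr_of_const (hNN.trans hP) hχ hσ h3 fun x hx => ?_
  refine indFun_apply_eq_apply_one_of_normal H _ (⁅N, N⁆.subgroupOf P)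
    ((subgroupOf_mono _ hNN).trans h6) (fun n hn => ?_) hx
  let f : N →* H := (inclusion hP).codRestrict H fun y => h6 y.2
  have h7 : ((n : P) : G) ∈ (_root_.commutator N).map N.subtype := by
    rw [_root_.commutator, map_commutator, ← MonoidHom.range_eq_map, range_subtype]; exact hn
  obtain ⟨y, hy, e⟩ := h7
  have h8 : μ.comp f y = 1 := Abelianization.commutator_subset_ker _ hy
  have h9 : f y = n := Subtype.ext (Subtype.ext e)
  rw [MonoidHom.comp_apply, h9] at h8
  simp [h8]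

theorem ex_not_kr {N : Subgroup G} (h : N ≠ ⊥) : ∃ χ, IsIrrCharacter G χ ∧ ¬ Kr χ N := by
  obtain ⟨⟨x, hx⟩, h1⟩ := ne_bot_iff_exists_ne_one.1 h
  obtain ⟨χ, h2, h3⟩ := exists_irr_apply_ne_of_ne_one (g := x) (by simpa using h1)
  exact ⟨χ, h2, fun hk => h3 (hk x hx)⟩

/-- One step down the derived series of a normal `p`-subgroup. -/
theorem t1s (N : Subgroup G) [N.Normal] {p : ℕ} (hp : p.Prime) (hN : IsPGroup p N) (h0 : N ≠ ⊥) :
    ∃ e χ, IsIrrCharacter G χ ∧ ¬ Kr χ N ∧ ¬ p ^ (e + 1) ∣ charDegree χ ∧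
      (∀ ψ, IsIrrCharacter G ψ → ¬ Kr ψ N → p ^ e ∣ charDegree ψ) ∧
      ∀ ψ, IsIrrCharacter G ψ → ¬ Kr ψ ⁅N, N⁆ → p ^ (e + 1) ∣ charDegree ψ := by
  classical
  have hex : ∃ e, ∃ χ, IsIrrCharacter G χ ∧ ¬ Kr χ N ∧ ¬ p ^ (e + 1) ∣ charDegree χ := by
    obtain ⟨χ, h1, h2⟩ := ex_not_kr h0
    refine ⟨charDegree χ, χ, h1, h2, fun hd => ?_⟩
    have := Nat.le_of_dvd h1.charDegree_pos hd
    have := Nat.lt_pow_self (n := charDegree χ + 1) hp.one_lt
    omega
  obtain ⟨χ, h1, h2, h3⟩ := Nat.find_spec hex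
  have h4 : ∀ ψ, IsIrrCharacter G ψ → ¬ Kr ψ N → p ^ Nat.find hex ∣ charDegree ψ := by
    intro ψ a b
    by_contra c
    rcases hf : Nat.find hex with _ | e
    · rw [hf] at c; simp at c
    · exact Nat.find_min hex (m := e) (by omega) ⟨ψ, a, b, by rwa [hf] at c⟩
  exact ⟨_, χ, h1, h2, h3, h4, fun ψ a b => by_contra fun c => b (t1 N hp hN h4 a c)⟩

end Cfsg.Lib.Gar
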