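import Cfsg.Agent.Lib.Gar.A

/-! Garrison's theorem: products of canonical extensions with linear characters. -/

set_option autoImplicit false

namespace Cfsg.Lib.Gar
open Cfsg.Lib.Char Cfsg.Lib.CharDeg Cfsg.Lib.Clifford Cfsg.Lib.Induce Cfsg.Lib.Core Subgroup
open scoped commutatorElement ComplexConjugate

variable {G : Type*} [Group G] [Fintype G]

theorem sylOver {L J : Subgroup G} [L.Normal] (hLJ : L ≤ J) {l : ℕ} (hl : l.Prime) :
    ∃ U : Subgroup G, L ≤ U ∧ U ≤ J ∧ (∃ k, L.relIndex U = l ^ k) ∧ ¬ l ∣ U.relIndex J := by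
  have := Fact.mk hl
  obtain ⟨P⟩ : Nonempty (Sylow l J) := inferInstance
  refine ⟨(P : Subgroup J).map J.subtype ⊔ L, le_sup_right, sup_le (map_subtype_le _) hLJ, ?_,
    fun h => P.not_dvd_index ?_⟩
  · rw [relIndex_sup_right]
    obtain ⟨k, hk⟩ := (P.isPGroup'.map J.subtype).exists_card_eq
    obtain ⟨j, -, hj⟩ := (Nat.dvd_prime_pow hl).1 (hk ▸ relIndex_dvd_card L _)
    exact ⟨j, hj⟩
  · refine h.trans ((relIndex_dvd_of_le_left J le_sup_left).trans ?_)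
    rw [relIndex, subgroupOf, comap_map_eq_self_of_injective J.subtype_injective]

theorem deg_dvd {N : Subgroup G} [N.Normal] {χ : G → ℂ} (hχ : IsIrrCharacter G χ) {θ : N → ℂ}
    (hθ : IsIrrCharacter N θ) (h : ov N χ θ) :
    (inertia N θ).index * charDegree θ ∣ charDegree χ := by
  obtain ⟨e, he⟩ := (hχ.isCharacter.restrict N).exists_inner_eq_nat hθ.isCharacter
  have := clifford_degree N hχ hθ h
  rw [he, hχ.apply_one_eq, hθ.apply_one_eq] at this
  exact ⟨e, by rw [mul_comm, ← mul_assoc]; exact_mod_cast this⟩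

theorem idx_dvd {N : Subgroup G} [N.Normal] {χ : G → ℂ} (hχ : IsIrrCharacter G χ) {θ : N → ℂ}
    (hθ : IsIrrCharacter N θ) (h : ov N χ θ) : (inertia N θ).index ∣ charDegree χ :=
  (dvd_mul_right _ _).trans (deg_dvd hχ hθ h)

theorem lemQ {L : Subgroup G} [hL : L.Normal] (μ : L →* ℂˣ) {l e : ℕ} (hl : l.Prime)
    (ho : ¬ l ∣ orderOf μ) (h : ¬ l ^ e ∣ (inertia L (ln μ)).index) :
    ∃ ξ, IsIrrCharacter G ξ ∧ ov L ξ (ln μ) ∧ ¬ l ^ e ∣ charDegree ξ := by
  obtain ⟨U, h1, h2, ⟨k, hk⟩, h3⟩ :=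
    sylOver (le_inertia L (isIrrCharacter_hom μ).isClassFunction) hl
  obtain ⟨ν, hν, -⟩ := exists_hom_extension_of_coprime (L.subgroupOf U)
    (μ.comp (subgroupOfEquivOfLe h1).toMonoidHom)
    (fun g n => mem_inertia_hom.1 (h2 g.2) (subgroupOfEquivOfLe h1 n))
    (by
      rw [← relIndex, hk]
      refine Nat.Coprime.pow_left _ (hl.coprime_iff_not_dvd.2 fun hd => ho (hd.trans ?_))
      refine orderOf_dvd_of_pow_eq_one (MonoidHom.ext fun x => ?_)
      exact DFunLike.congr_fun (pow_orderOf_eq_one μ) (subgroupOfEquivOfLe h1 x))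
  obtain ⟨ξ, h4, h5, h6⟩ := ex_over U (isCharacter_hom ν) (m := l ^ e) (by
    rw [charDegree_hom, mul_one, ← relIndex_mul_index h2]
    exact not_dvd_mul hl h3 h)
  refine ⟨ξ, h4, ov_trans h1 h4.isCharacter (isIrrCharacter_hom ν) h5 (isCharacter_hom μ) ?_, h6⟩
  have : (fun n : L => (ν ⟨n, h1 n.2⟩ : ℂ)) = ln μ := funext fun n =>
    congrArg Units.val (hν ⟨⟨n, h1 n.2⟩, n.2⟩)
  rw [this, (isIrrCharacter_hom μ).inner_self]; exact one_ne_zero

section canon
variable {F : Subgroup G} [F.Normal] {φ : F → ℂ}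

theorem canon (hφ : IsIrrCharacter F φ) {T : Subgroup G} (hFT : F ≤ T) (hT : T ≤ inertia F φ)
    (hc : (F.relIndex T).Coprime (Nat.card F)) :
    ∃ χ : T → ℂ, IsIrrCharacter T χ ∧ (∀ n : F, χ ⟨n, hFT n.2⟩ = φ n) ∧ detOrder χ ∣ Nat.card F := by
  have h1 := (isIrrCharacter_subgroupOf_iff hFT).2 hφ
  have h2 := Nat.card_congr (subgroupOfEquivOfLe hFT).toEquiv
  obtain ⟨χ, h3, h4, h5⟩ := exists_extension_detOrder_eq (F.subgroupOf T) h1
    (invariant_subgroupOf F hT) (coprime_detOrder_mul_charDegree _ h1 (by rw [h2]; exact hc))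
  exact ⟨χ, h3, fun n => h4 ⟨⟨n, hFT n.2⟩, n.2⟩, by rw [h5, ← h2]; exact detOrder_dvd_card _⟩

theorem canon_uniq (hφ : IsIrrCharacter F φ) {T : Subgroup G} (hFT : F ≤ T)
    (hc : (F.relIndex T).Coprime (Nat.card F)) {χ ψ : T → ℂ} (hχ : IsCharacter T χ)
    (hψ : IsCharacter T ψ) (h1 : ∀ n : F, χ ⟨n, hFT n.2⟩ = φ n) (h2 : ∀ n : F, ψ ⟨n, hFT n.2⟩ = φ n)
    (h3 : detOrder χ ∣ Nat.card F) (h4 : detOrder ψ ∣ Nat.card F) : ψ = χ := by
  refine eq_of_res_eq_of_coprime_detOrder (F.subgroupOf T) hχ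
    ((isIrrCharacter_res_subgroupOf_iff hFT).2 (by rwa [funext h1])) hψ
    (fun n => (h2 ⟨n.1, n.2⟩).trans (h1 ⟨n.1, n.2⟩).symm) ?_ (hc.coprime_dvd_right h3)
    (hc.coprime_dvd_right h4)
  rw [charDegree_congr (ψ := φ) (h1 1)]
  exact hc.coprime_dvd_right hφ.charDegree_dvd_card

end canon

theorem cop_of {F : Subgroup G} {q n : ℕ} (hq : q.Prime) (hF : IsPGroup q F) (h : ¬ q ∣ n) :
    n.Coprime (Nat.card F) := by
  have := Fact.mk hq
  obtain ⟨k, hk⟩ := hF.exists_card_eq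
  rw [hk]
  exact Nat.Coprime.pow_right _ (hq.coprime_iff_not_dvd.2 h).symm

/-- The character `μ φ̂` and the degrees lying over it. -/
theorem pq {F L : Subgroup G} [F.Normal] [hLn : L.Normal] (hFL : F ≤ L) {q : ℕ} (hq : q.Prime)
    (hF : IsPGroup q F) (hL : ¬ q ∣ F.relIndex L) {φ : F → ℂ} (hφ : IsIrrCharacter F φ)
    (hinv : L ≤ inertia F φ) (μ : L →* ℂˣ) (hμ : ∀ n : L, (n : G) ∈ F → μ n = 1) :
    ∃ η : L → ℂ, IsIrrCharacter L η ∧
      (∀ χ, IsIrrCharacter G χ → ov L χ η → ov F χ φ ∧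
        (∀ l e : ℕ, l.Prime → l ≠ q →
          (∀ ξ, IsIrrCharacter G ξ → ov L ξ (ln μ) → l ^ e ∣ charDegree ξ) → l ^ e ∣ charDegree χ) ∧
        ∀ e : ℕ, (∀ ξ, IsIrrCharacter G ξ → ov L ξ (ln μ) → q ^ e ∣ charDegree ξ) →
          q ^ e * charDegree φ ∣ charDegree χ) ∧
      ∀ (U : Subgroup G) (hLU : L ≤ U), U ≤ inertia F φ → ¬ q ∣ F.relIndex U → ∀ β : U →* ℂˣ,
        (∀ n : L, β ⟨n, hLU n.2⟩ = μ n) → ∀ m, ¬ m ∣ U.index * charDegree φ →
          ∃ χ, IsIrrCharacter G χ ∧ ov L χ η ∧ ¬ m ∣ charDegree χ := by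
  have hc := cop_of hq hF hL
  obtain ⟨φ1, h1, h2, h3⟩ := canon hφ hFL hinv hc
  have hd1 : charDegree φ1 = charDegree φ := charDegree_congr (h2 1)
  have hU : ∀ (U : Subgroup G) (hLU : L ≤ U), U ≤ inertia F φ → ¬ q ∣ F.relIndex U →
      ∃ φ2 : U → ℂ, IsIrrCharacter U φ2 ∧ ∀ n : L, φ2 ⟨n, hLU n.2⟩ = φ1 n := by
    intro U hLU a b
    obtain ⟨φ2, c1, c2, c3⟩ := canon hφ (hFL.trans hLU) a (cop_of hq hF b)
    exact ⟨φ2, c1, congrFun (canon_uniq hφ hFL hc h1.isCharacter (isCharacter_res_le hLU c1.isCharacter)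
      h2 c2 h3 ((detOrder_comp_dvd c1.isCharacter (inclusion hLU)).trans c3))⟩
  have hη := h1.hom_mul μ
  have hr : ∀ n : F, (μ ⟨n, hFL n.2⟩ : ℂ) * φ1 ⟨n, hFL n.2⟩ = φ n := fun n => by
    rw [hμ _ n.2, h2]; simp
  set η : L → ℂ := fun g => (μ g : ℂ) * φ1 g with hηd
  have hdη : charDegree η = charDegree φ := charDegree_congr (hr 1)
  have hI1 : inertia L η ≤ inertia F φ := fun g hg => (mem_inertia_iff F).2 fun n => by
    rw [← hr, ← hr]; exact (mem_inertia_iff L).1 hg ⟨n, hFL n.2⟩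
  have hI2 : inertia L η ≤ inertia L (ln μ) := fun g hg => by
    have e1 : conjChar L g φ1 = φ1 := canon_uniq hφ hFL hc h1.isCharacter
      (isCharacter_conjChar L h1.isCharacter g) h2
      (fun n => (h2 ⟨g * n * g⁻¹, ‹F.Normal›.conj_mem _ n.2 g⟩).trans
        ((mem_inertia_iff F).1 (hI1 hg) n)) h3
      (by
        rw [conjChar_eq_comp]
        exact (detOrder_comp_dvd h1.isCharacter (MulAut.conjNormal (H := L) g).toMonoidHom).trans h3)
    have e2 := hom_eq_of_mul_eq (F.subgroupOf L) h1.isCharacter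
      ((isIrrCharacter_res_subgroupOf_iff hFL).2 (by rwa [funext h2]))
      (lam := μ.comp (MulAut.conjNormal (H := L) g).toMonoidHom) (mu := μ)
      (fun n hn => hμ _ (‹F.Normal›.conj_mem _ hn g)) (fun n hn => hμ _ hn)
      (funext fun n => by
        have e3 := (mem_inertia_iff L).1 hg n
        have e4 := congrFun e1 n
        rw [conjChar_apply] at e4
        simp only [hηd] at e3
        rw [e4] at e3
        exact e3)
    exact mem_inertia_hom.2 fun a => DFunLike.congr_fun e2 a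
  refine ⟨η, hη, fun χ hχ ho => ⟨?_, fun l e hl hlq h => ?_, fun e h => ?_⟩,
    fun U hLU a b β hβ m hm => ?_⟩
  · refine ov_trans hFL hχ.isCharacter hη ho hφ.isCharacter ?_
    rw [show (fun n : F => η ⟨n, hFL n.2⟩) = φ from funext hr, hφ.inner_self]; exact one_ne_zero
  · by_contra hn
    have hLJ := le_inertia L hη.isClassFunction
    obtain ⟨ψ, c1, rfl, c2⟩ := exists_indFun_eq_of_over L hLJ hη le_rfl hχ ho
    obtain ⟨U, hLU, hUJ, ⟨k, hk⟩, c3⟩ := sylOver hLJ hl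
    rw [deg_ind _ c1.isCharacter] at hn
    obtain ⟨σ, d1, d2, d3⟩ := ex_const (isCharacter_res_le hUJ c1.isCharacter) (m := l ^ e)
      (k := U.index) (by
        rw [← relIndex_mul_index hUJ, mul_assoc]
        exact not_dvd_mul hl c3 hn)
    obtain ⟨φ2, e1, e2⟩ := hU U hLU (hUJ.trans hI1) (by
      rw [← relIndex_mul_relIndex F L U hFL hLU, hk, hq.dvd_mul]
      exact fun h => h.elim hL fun h => hlq ((Nat.prime_dvd_prime_iff_eq hq hl).1
        (hq.dvd_of_dvd_pow h)).symm)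
    have d4 : classInner (fun n : L => σ ⟨n, hLU n.2⟩) η ≠ 0 := by
      have f0 := isCharacter_res_le hLU d1.isCharacter
      obtain ⟨θ, f1, f2⟩ := f0.isClassFunction.exists_irr_inner_ne_zero
        fun h0 => d1.apply_one_ne_zero (congrFun h0 1)
      have f3 := inner_comp_ne_zero_of_constituent (inclusion hLU)
        (isCharacter_res_le hUJ c1.isCharacter) d1 d2 f1.isCharacter f2
      have f4 := res_eq_smul_of_le_inertia L hLJ c1 hη (c2 ▸ ho) le_rfl
      have f5 : classInner (fun n : L => ψ ⟨n, hLJ n.2⟩) θ ≠ 0 := f3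
      rw [f4, classInner_smul_left] at f5
      rwa [hη.eq_of_inner_ne_zero f1 (right_ne_zero_of_mul f5)]
    have hp : (fun n : L.subgroupOf U => ln μ ⟨(n : U), mem_subgroupOf.1 n.2⟩ * φ2 n) =
        fun n : L.subgroupOf U => η ⟨(n : U), mem_subgroupOf.1 n.2⟩ := funext fun n => by
      rw [hηd]; exact congrArg _ (e2 ⟨(n : U), mem_subgroupOf.1 n.2⟩)
    obtain ⟨β, ⟨g1, g2⟩, g3⟩ := (bijOn_mul_of_extension (L.subgroupOf U)
      ((isIrrCharacter_subgroupOf_iff hLU).2 (isIrrCharacter_hom μ))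
      (invariant_subgroupOf L (hUJ.trans hI2)) e1.isCharacter
      (by rw [hp]; exact (isIrrCharacter_subgroupOf_iff hLU).2 hη)).surjOn
      (show σ ∈ _ from ⟨d1, by rw [hp, classInner_res_subgroupOf hLU]; exact d4⟩)
    rw [classInner_res_subgroupOf hLU β (ln μ)] at g2
    obtain ⟨ξ, i1, i2, i3⟩ := ex_over U g1.isCharacter (m := l ^ e) fun hd => d3 (by
      rw [← g3, charDegree_mul g1.isCharacter e1.isCharacter, ← mul_assoc]
      exact hd.mul_right _)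
    exact i3 (h ξ i1 (ov_trans hLU i1.isCharacter g1 i2 (isCharacter_hom μ) g2))
  · have c1 : q ^ e ∣ (inertia L (ln μ)).index := by
      by_contra hn
      obtain ⟨ξ, c1, c2, c3⟩ := lemQ μ hq (fun hd => hL (hd.trans
        (orderOf_hom_dvd_index μ (F.subgroupOf L) fun n hn => hμ n hn))) hn
      exact c3 (h ξ c1 c2)
    refine (mul_dvd_mul (c1.trans (index_dvd_of_le hI2)) dvd_rfl).trans ?_
    rw [← hdη]; exact deg_dvd hχ hη ho
  · obtain ⟨φ2, e1, e2⟩ := hU U hLU a b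
    obtain ⟨χ, c1, c2, c3⟩ := ex_over U (e1.hom_mul β).isCharacter (m := m) (by
      rwa [charDegree_congr (ψ := φ) (by rw [← h2 1, ← e2]; simp; rfl)])
    refine ⟨χ, c1, ov_trans hLU c1.isCharacter (e1.hom_mul β) c2 hη.isCharacter ?_, c3⟩
    rw [show (fun n : L => (β ⟨n, hLU n.2⟩ : ℂ) * φ2 ⟨n, hLU n.2⟩) = η from
      funext fun n => by rw [hβ, e2], hη.inner_self]
    exact one_ne_zero

end Cfsg.Lib.Gar
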