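import Cfsg.Agent.Lib.Gar.B
import Cfsg.Agent.Lib.CharDeg.RelGraph

/-! Garrison's theorem: linear characters of abelian sections. -/

set_option autoImplicit false

namespace Cfsg.Lib.Gar
open Cfsg.Lib.Char Cfsg.Lib.CharDeg Cfsg.Lib.Clifford Cfsg.Lib.Induce Cfsg.Lib.Core Subgroup
open scoped commutatorElement ComplexConjugate

variable {G : Type*} [Group G] [Fintype G]

omit [Fintype G] in
theorem nrm_of {K L : Subgroup G} (h : ⁅L, L⁆ ≤ K) : (K.subgroupOf L).Normal :=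
  ⟨fun n hn g => by
    have : ((g * n * g⁻¹ : L) : G) = ⁅(g : G), (n : G)⁆ * n := by
      simp [commutatorElement_def]
    rw [mem_subgroupOf, this]
    exact K.mul_mem (h (commutator_mem_commutator g.2 n.2)) hn⟩

theorem hom_of_kr {K L : Subgroup G} (h : ⁅L, L⁆ ≤ K) {θ : L → ℂ} (hθ : IsIrrCharacter L θ)
    (hk : ∀ n : L, (n : G) ∈ K → θ n = θ 1) :
    ∃ μ : L →* ℂˣ, θ = ln μ ∧ ∀ n : L, (n : G) ∈ K → μ n = 1 := by
  have h1 : θ 1 = 1 := apply_one_eq_one_of_commutator hθ fun a b =>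
    hk _ (h (commutator_mem_commutator a.2 b.2))
  obtain ⟨μ, rfl⟩ := hθ.isCharacter.exists_hom_of_apply_one h1
  exact ⟨μ, rfl, fun n hn => Units.ext ((hk n hn).trans h1)⟩

theorem ex_lam {K L : Subgroup G} (h : ⁅L, L⁆ ≤ K) {x : G} (hx : x ∈ L) (hx' : x ∉ K) :
    ∃ μ : L →* ℂˣ, (∀ n : L, (n : G) ∈ K → μ n = 1) ∧ μ ⟨x, hx⟩ ≠ 1 := by
  have := nrm_of h
  obtain ⟨θ, h1, h2, h3⟩ := exists_irr_ker_ge_apply_ne (K.subgroupOf L) (g := ⟨x, hx⟩) hx'
  obtain ⟨μ, rfl, h4⟩ := hom_of_kr h h1 h2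
  exact ⟨μ, h4, fun e => h3 (by simp [ln, e])⟩

theorem lam_below {F L : Subgroup G} (h : ⁅L, L⁆ ≤ F) {ξ : G → ℂ} (hξ : IsIrrCharacter G ξ)
    (hk : Kr ξ F) : ∃ μ : L →* ℂˣ, (∀ n : L, (n : G) ∈ F → μ n = 1) ∧ ov L ξ (ln μ) := by
  obtain ⟨θ, h1, h2⟩ := exists_irr_below L hξ
  obtain ⟨μ, rfl, h4⟩ := hom_of_kr h h1 (const_kr hξ.isCharacter hk h1 h2)
  exact ⟨μ, h4, h2⟩

theorem kr_of_lam {F L : Subgroup G} [F.Normal] (h : F ≤ L) {ξ : G → ℂ} (hξ : IsIrrCharacter G ξ)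
    {μ : L →* ℂˣ} (hμ : ∀ n : L, (n : G) ∈ F → μ n = 1) (ho : ov L ξ (ln μ)) : Kr ξ F :=
  kr_of_const h hξ (isIrrCharacter_hom μ) ho fun x hx => by simp [hμ x hx]

theorem lam_of_kr {K L : Subgroup G} {ξ : G → ℂ} (hξ : IsIrrCharacter G ξ)
    {μ : L →* ℂˣ} (ho : ov L ξ (ln μ)) (hk : Kr ξ K) (x : L) (hx : (x : G) ∈ K) : μ x = 1 := by
  have := const_kr hξ.isCharacter hk (isIrrCharacter_hom μ) ho x hx
  exact Units.ext (by simpa using this)

theorem same_deg {L : Subgroup G} [L.Normal] (h : _root_.commutator G ≤ L) {ξ ψ : G → ℂ}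
    (hξ : IsIrrCharacter G ξ) (hψ : IsIrrCharacter G ψ) {θ : L → ℂ} (hθ : IsIrrCharacter L θ)
    (h1 : ov L ξ θ) (h2 : ov L ψ θ) : charDegree ψ = charDegree ξ := by
  obtain ⟨μ, -, rfl⟩ := exists_hom_mul_eq_of_abelian_of_over L
    (fun x y => h (commutator_mem_commutator (mem_top x) (mem_top y))) hξ hψ hθ h1 h2
  exact charDegree_congr (by simp)

omit [Fintype G] in
theorem mem_inertia_of {A : Subgroup G} [hA : A.Normal] {μ : A →* ℂˣ} {g : G}
    (h : ∀ x : A, ∀ y : A, (y : G) = ⁅g, (x : G)⁆ → μ y = 1) : g ∈ inertia A (ln μ) :=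
  mem_inertia_hom.2 fun a => by
    have h1 : ⁅g, (a : G)⁆ ∈ A := by
      rw [commutatorElement_def]
      exact A.mul_mem (hA.conj_mem _ a.2 g) (A.inv_mem a.2)
    have : (⟨g * a * g⁻¹, hA.conj_mem _ a.2 g⟩ : A) = ⟨_, h1⟩ * a :=
      Subtype.ext (by simp [commutatorElement_def])
    rw [this, map_mul, h a _ rfl, one_mul]

omit [Fintype G] in
theorem le_inertia_of {A M K : Subgroup G} [A.Normal] {μ : A →* ℂˣ} (h : ⁅M, A⁆ ≤ K)
    (hμ : ∀ n : A, (n : G) ∈ K → μ n = 1) : M ≤ inertia A (ln μ) := fun _ hg =>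
  mem_inertia_of fun x _ e => hμ _ (e ▸ h (commutator_mem_commutator hg x.2))

omit [Fintype G] in
theorem lam_comm {A M : Subgroup G} [hA : A.Normal] {μ : A →* ℂˣ} (h : M ≤ inertia A (ln μ))
    (y : A) (hy : (y : G) ∈ ⁅M, A⁆) : μ y = 1 := by
  have : ⁅M, A⁆ ≤ μ.ker.map A.subtype := commutator_le.2 fun g hg x hx => by
    refine ⟨⟨g * x * g⁻¹, hA.conj_mem _ hx g⟩ * ⟨x, hx⟩⁻¹, ?_, by simp [commutatorElement_def]⟩
    rw [SetLike.mem_coe, MonoidHom.mem_ker, map_mul, map_inv,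
      mem_inertia_hom.1 (h hg) ⟨x, hx⟩, mul_inv_cancel]
  obtain ⟨z, hz, e⟩ := this hy
  exact (Subtype.ext e : z = y) ▸ hz

theorem fix {A B : Subgroup G} [A.Normal] [B.Normal] (h : ⁅A, A⁆ ≤ B) {p : ℕ} (hp : p.Prime)
    (hd : p ∣ B.relIndex A) : ∃ μ : A →* ℂˣ, μ ≠ 1 ∧ (∀ n : A, (n : G) ∈ B → μ n = 1) ∧
      ¬ p ∣ (inertia A (ln μ)).index := by
  let π := QuotientGroup.mk' B
  have hπ : Function.Surjective π := QuotientGroup.mk'_surjective B
  have : (A.map π).Normal := Normal.map ‹_› π hπ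
  obtain ⟨a, h1, -, h2⟩ := RelGraph.exists_lin (N := A.map π) hp (by
    rw [← map_commutator, (map_mk'_eq_bot_iff B _).2 h, relIndex_bot_left,
      card_map_mk'_eq_relIndex]; exact hd)
  refine ⟨a.hom.comp (π.subgroupMap A), fun e => h1 (MonoidHom.ext fun y => ?_), fun n hn => ?_,
    fun hd => h2 ?_⟩
  · obtain ⟨x, rfl⟩ := π.subgroupMap_surjective A y
    exact DFunLike.congr_fun e x
  · have : π.subgroupMap A n = 1 := Subtype.ext ((QuotientGroup.eq_one_iff _).2 hn)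
    rw [MonoidHom.comp_apply, this, map_one]
  · rw [← index_comap_of_surjective _ hπ]
    refine hd.trans (index_dvd_of_le fun g hg => mem_inertia_hom.2 fun x => ?_)
    have := mem_inertia_hom.1 (show π g ∈ inertia (A.map π) (ln a.hom) from hg) (π.subgroupMap A x)
    rw [MonoidHom.comp_apply, MonoidHom.comp_apply, ← this]
    exact congrArg _ (Subtype.ext (by simp))

theorem deg_one {F : Subgroup G} [F.Normal] {q : ℕ} (hq : q.Prime) (hF : IsPGroup q F)
    {χ : G → ℂ} (hχ : IsIrrCharacter G χ) {φ : F → ℂ} (hφ : IsIrrCharacter F φ) (h : ov F χ φ)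
    (hd : ¬ q ∣ charDegree χ) : charDegree φ = 1 :=
  Nat.eq_one_of_dvd_coprimes (cop_of hq hF hd)
    ((dvd_mul_left _ _).trans (deg_dvd hχ hφ h)) hφ.charDegree_dvd_card

/-- A character of `q'`-degree over a character of `O_q(G)` that is moved by `L`. -/
theorem xlem {q : ℕ} (hq : q.Prime) (hO : pPrimeCore q G = ⊥) {L : Subgroup G} [L.Normal]
    (hFL : pCore q G ≤ L) (h : ⁅L, L⁆ ≤ pCore q G) (hL : ¬ q ∣ (pCore q G).relIndex L)
    (hne : ¬ L ≤ pCore q G) : ∃ χ φ, IsIrrCharacter G χ ∧ IsIrrCharacter (pCore q G) φ ∧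
      ov (pCore q G) χ φ ∧ ¬ q ∣ charDegree χ ∧ ¬ L ≤ inertia (pCore q G) φ := by
  have := Fact.mk hq
  have hF := pCore_isPGroup q G
  by_contra hc
  push Not at hc
  obtain ⟨M, hM, h1, h2⟩ := exists_complement_of_rel L (p := q) fun χ hχ ⟨x, hx, hx'⟩ => by
    by_contra hd
    obtain ⟨φ, c1, c2⟩ := exists_irr_below (pCore q G) hχ
    obtain ⟨ν, c3, c4, -⟩ := canon c1 hFL (hc χ φ hχ c1 c2 hd) (cop_of hq hF hL)
    obtain ⟨θ, d1, d2, d3⟩ := exists_irr_between (inclusion hFL)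
      (hχ.isClassFunction.restrict L) c2
    obtain ⟨β, -, rfl⟩ := exists_hom_mul_eq_of_abelian_of_over ((pCore q G).subgroupOf L)
      (fun x y => h (commutator_mem_commutator x.2 y.2)) c3 d1
      ((isIrrCharacter_subgroupOf_iff hFL).2 c1)
      (by rw [classInner_res_subgroupOf hFL, funext c4, c1.inner_self]; exact one_ne_zero)
      (by rw [classInner_res_subgroupOf hFL]; exact d3)
    have e1 : charDegree (fun g : L => (β g : ℂ) * ν g) = 1 := by
      rw [← deg_one hq hF hχ c1 c2 hd]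
      exact charDegree_congr (by rw [← c4 1]; simp; rfl)
    refine hx' (kr_of_const (commutator_le_left L L) hχ d1 d2 (fun y hy => ?_) x hx)
    refine kr_comm d1.isCharacter e1 y ?_
    have h7 : (y : G) ∈ (_root_.commutator L).map L.subtype := by
      rw [_root_.commutator, map_commutator, ← MonoidHom.range_eq_map, range_subtype]; exact hy
    obtain ⟨z, hz, e⟩ := h7
    exact (Subtype.ext e : z = y) ▸ hz
  have h3 : M = ⊥ := by
    have := (map_mono (f := L.subtype) (le_pPrimeCore hM h1)).trans (pPrimeCoreOf_le_pPrimeCore L)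
    rw [hO, le_bot_iff] at this
    exact map_subtype_eq_bot_iff.1 this
  subst h3
  exact hne (le_pCore ‹_› (h2.of_equiv QuotientGroup.quotientBot))

/-- A constituent of a permutation character over a given character of a normal subgroup. -/
theorem mack (T L : Subgroup G) [L.Normal] {θ : L → ℂ} (hθ : IsIrrCharacter L θ)
    (h : ∀ x : L, (x : G) ∈ T → θ x = θ 1) :
    ∃ ψ, IsIrrCharacter G ψ ∧ ov L ψ θ ∧ ov T ψ (fun _ => 1) := by
  have hc := isCharacter_indFun L hθ.isCharacter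
  have h1 : ov L (indFun L θ) θ := by
    rw [← ov_iff hc.isClassFunction, Ne, classInner_self_eq_zero_iff]
    exact indFun_ne_zero L hθ.apply_one_ne_zero
  have h2 : ov (T ⊓ L) (indFun L θ) (fun _ => 1) := by
    refine ov_trans inf_le_right hc hθ h1 isCharacter_one ?_
    rw [classInner_one_right, Finset.sum_congr rfl fun (x : (T ⊓ L : Subgroup G)) _ =>
      h ⟨x, (mem_inf.1 x.2).2⟩ (mem_inf.1 x.2).1]
    have := card_ne_zero_complex (T ⊓ L : Subgroup G)
    have := hθ.apply_one_ne_zero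
    simp only [Finset.sum_const, Finset.card_univ, nsmul_eq_mul, ← Nat.card_eq_fintype_card]
    exact mul_ne_zero (inv_ne_zero ‹_›) (mul_ne_zero ‹_› ‹_›)
  have h3 : ov T (indFun L θ) (fun _ => 1) := by
    rw [ov, classInner_one_right] at h2 ⊢
    rw [sum_inf T L fun g hg => indFun_normal_of_not_mem L _ hg]
    exact mul_ne_zero (inv_ne_zero (card_ne_zero_complex T)) (right_ne_zero_of_mul h2)
  obtain ⟨ψ, c1, c2, c3⟩ := exists_irr_between T.subtype hc.isClassFunction h3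
  exact ⟨ψ, c1, (ov_iff c1.isClassFunction).1 c2, c3⟩

omit [Fintype G] in
theorem conj_pow_fix {d x y : G} (h : d * x * d⁻¹ = y * x) (hy : d * y * d⁻¹ = y) (n : ℕ) :
    d ^ n * x * (d ^ n)⁻¹ = y ^ n * x := by
  induction n with
  | zero => simp
  | succ n ih =>
    have e : d * y ^ n * d⁻¹ = y ^ n := by rw [← conj_pow, hy]
    calc d ^ (n + 1) * x * (d ^ (n + 1))⁻¹ = d * (d ^ n * x * (d ^ n)⁻¹) * d⁻¹ := by group
      _ = (d * y ^ n * d⁻¹) * (d * x * d⁻¹) := by rw [ih]; group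
      _ = y ^ (n + 1) * x := by rw [e, h, pow_succ, mul_assoc]

/-- If all degrees over `F'` are prime to `|L : F|`, then `q'`-elements of `L` centralize `F'`. -/
theorem cent {F L : Subgroup G} [F.Normal] [L.Normal] {q : ℕ} (hq : q.Prime) (hF : IsPGroup q F)
    (h : ∀ χ, IsIrrCharacter G χ → ¬ Kr χ ⁅F, F⁆ → (F.relIndex L).Coprime (charDegree χ))
    {d : G} (hd : d ∈ L) (ho : ¬ q ∣ orderOf d) :
    ∀ X : Subgroup G, X.Normal → X ≤ ⁅F, F⁆ → ∀ x ∈ X, d * x * d⁻¹ = x := by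
  have := Fact.mk hq
  intro X
  induction X using WellFoundedLT.induction with
  | ind X ih =>
  intro hX hle x hx
  have hXF : X ≤ F := hle.trans (commutator_le_left F F)
  have hY : ⁅F, X⁆ ≤ X := commutator_le_right F X
  by_cases h0 : ⁅F, X⁆ = X
  · have : X = ⊥ := by
      have := hF.isNilpotent
      have h1 : X.subgroupOf F ≤ ⊥ := by
        have : Group.IsNilpotent (F ⧸ (⊥ : Subgroup F)) :=
          Group.nilpotent_of_surjective _ (QuotientGroup.mk'_surjective _)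
        refine le_of_le_commutator_sup_of_nilpotent this (le_sup_of_le_left ?_)
        rw [← map_subtype_le_map_subtype, map_commutator, subgroupOf_map_subtype,
          inf_eq_left.2 hXF, ← MonoidHom.range_eq_map, range_subtype, commutator_comm, h0]
      rw [le_bot_iff, subgroupOf_eq_bot, disjoint_iff, inf_eq_left.2 hXF] at h1
      exact h1
    rw [this, mem_bot] at hx
    simp [hx]
  have h1 : ⁅d, x⁆ ∈ ⁅F, X⁆ := by
    by_contra hn
    have h2 : ⁅d, x⁆ ∈ X := by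
      rw [commutatorElement_def]; exact X.mul_mem (hX.conj_mem _ hx d) (X.inv_mem hx)
    obtain ⟨τ, t1, t2⟩ := ex_lam (commutator_mono hXF le_rfl) h2 hn
    obtain ⟨χ, c1, c2⟩ := exists_irr_above X (isIrrCharacter_hom τ)
    have c3 : L ≤ inertia X (ln τ) := le_of_cop (le_inertia_of le_rfl t1)
      ((h χ c1 fun hk => t2 (lam_of_kr c1 c2 hk _ (hle h2))).coprime_dvd_right
        (idx_dvd c1 (isIrrCharacter_hom τ) c2))
    exact t2 (lam_comm c3 _ (commutator_mem_commutator hd hx))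
  have h2 := conj_pow_fix (d := d) (x := x) (y := ⁅d, x⁆) (by simp [commutatorElement_def])
    (ih _ (lt_of_le_of_ne hY h0) inferInstance (hY.trans hle) _ h1) (orderOf d)
  rw [pow_orderOf_eq_one] at h2
  have h3 : ⁅d, x⁆ ^ orderOf d = 1 := by simpa using h2.symm
  obtain ⟨k, hk⟩ := isPGroup_subgroup_iff.1 hF _ (hXF (hY h1))
  have h4 := RelGraph.eq_one_of_coprime
    (Nat.Coprime.pow_right k (hq.coprime_iff_not_dvd.2 ho).symm) h3 hk
  rw [commutatorElement_def] at h4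
  exact mul_inv_eq_one.1 h4

end Cfsg.Lib.Gar
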