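import Cfsg.Agent.Lib.Gar.C
import Cfsg.Agent.Lib.Coprime.Action

/-! Garrison's theorem: the main exclusion lemma and the case `H'' ≠ 1`. -/

set_option autoImplicit false

namespace Cfsg.Lib.Gar
open Cfsg.Lib.Char Cfsg.Lib.CharDeg Cfsg.Lib.Clifford Cfsg.Lib.Induce Cfsg.Lib.Core Subgroup
open scoped commutatorElement ComplexConjugate

variable {G : Type*} [Group G] [Fintype G]

theorem kr_sup {χ : G → ℂ} (hχ : IsIrrCharacter G χ) {A B : Subgroup G} (h1 : Kr χ A)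
    (h2 : Kr χ B) : Kr χ (A ⊔ B) := fun _ hx => hχ.isCharacter.mem_charKer_iff.1
  ((sup_le (fun x hx => hχ.isCharacter.mem_charKer_iff.2 (h1 x hx))
    (fun x hx => hχ.isCharacter.mem_charKer_iff.2 (h2 x hx)) : A ⊔ B ≤ charKer χ) hx)

theorem ov_kr {F M : Subgroup G} [M.Normal] (h : M ≤ F) {χ ψ : G → ℂ} (hχ : IsIrrCharacter G χ)
    (hψ : IsIrrCharacter G ψ) {φ : F → ℂ} (hφ : IsIrrCharacter F φ) (h1 : ov F χ φ) (h2 : ov F ψ φ)
    (hk : ¬ Kr χ M) : ¬ Kr ψ M := fun hc =>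
  hk (kr_of_const h hχ hφ h1 (const_kr hψ.isCharacter hc hφ h2))

theorem ex_val {p n : ℕ} (hp : p.Prime) (hn : n ≠ 0) : ∃ e, p ^ e ∣ n ∧ ¬ p ^ (e + 1) ∣ n :=
  ⟨_, Nat.ordProj_dvd n p, Nat.pow_succ_factorization_not_dvd hn hp⟩

theorem qd {F : Subgroup G} [F.Normal] {q : ℕ} (hq : q.Prime) (hF : IsPGroup q F) {χ : G → ℂ}
    (hχ : IsIrrCharacter G χ) (hk : ¬ Kr χ ⁅F, F⁆) {φ : F → ℂ} (hφ : IsIrrCharacter F φ)
    (h : ov F χ φ) : q ∣ charDegree φ := by
  by_contra hd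
  have e1 : charDegree φ = 1 := Nat.eq_one_of_dvd_coprimes (cop_of hq hF hd) dvd_rfl
    hφ.charDegree_dvd_card
  refine hk (kr_of_const (commutator_le_left F F) hχ hφ h fun y hy => ?_)
  refine kr_comm hφ.isCharacter e1 y ?_
  have h7 : (y : G) ∈ (_root_.commutator F).map F.subtype := by
    rw [_root_.commutator, map_commutator, ← MonoidHom.range_eq_map, range_subtype]; exact hy
  obtain ⟨z, hz, e⟩ := h7
  exact (Subtype.ext e : z = y) ▸ hz

theorem sub_p {F L : Subgroup G} [F.Normal] [hL : L.Normal] (hFL : F ≤ L) (h : ⁅L, L⁆ ≤ F) {p : ℕ}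
    (hp : p.Prime) (hd : p ∣ F.relIndex L) : ∃ K : Subgroup G, K.Normal ∧ F ≤ K ∧ K ≤ L ∧
      ¬ K ≤ F ∧ ∃ k, F.relIndex K = p ^ k := by
  have := Fact.mk hp
  let π := QuotientGroup.mk' F
  have hn : (L.map π).Normal := hL.map π (QuotientGroup.mk'_surjective F)
  have hc : IsMulCommutative (L.map π) := by
    rw [commutator_le_iff_map_mk', commutator_eq_bot_iff_le_centralizer] at h
    exact ⟨⟨fun a b => Subtype.ext (h b.2 a a.2)⟩⟩
  have hk : (powKer (L.map π) p).Normal := normal_of_top_le_normalizer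
    ((normalizer_eq_top _).ge.trans (normalizer_le_normalizer_powKer _ p))
  have hP : IsPGroup p (powKer (L.map π) p) :=
    isPGroup_subgroup_iff.2 fun x hx => ⟨1, by rw [pow_one]; exact (mem_powKer.1 hx).2⟩
  refine ⟨(powKer (L.map π) p).comap π, hk.comap π, le_comap_mk'' F _, fun x hx => ?_,
    fun hle => ?_, ?_⟩
  · have : x ∈ (L.map π).comap π := (mem_powKer.1 hx).1
    rwa [comap_map_mk', sup_eq_left.2 hFL] at this
  · obtain ⟨x, hx, ho⟩ := exists_mem_orderOf_eq_prime (H := L.map π) hp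
      (by rwa [card_map_mk'_eq_relIndex])
    obtain ⟨y, rfl⟩ := QuotientGroup.mk'_surjective F x
    have h1 : π y = 1 := (QuotientGroup.eq_one_iff y).2
      (hle (mem_powKer.2 ⟨hx, by rw [← ho, pow_orderOf_eq_one]⟩))
    rw [show QuotientGroup.mk' F y = 1 from h1, orderOf_one] at ho
    exact hp.one_lt.ne ho
  · rw [← card_map_mk'_eq_relIndex, map_comap_mk']
    exact hP.exists_card_eq

theorem qrel {q : ℕ} (hq : q.Prime) {L : Subgroup G} [L.Normal] (hFL : pCore q G ≤ L)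
    (h : ⁅L, L⁆ ≤ pCore q G) : ¬ q ∣ (pCore q G).relIndex L := fun hd => by
  have := Fact.mk hq
  obtain ⟨K, h1, h2, -, h3, k, hk⟩ := sub_p hFL h hq hd
  obtain ⟨j, hj⟩ := (pCore_isPGroup q G).exists_card_eq
  exact h3 (le_pCore h1 (IsPGroup.of_card (n := j + k)
    (by rw [← card_mul_relIndex h2, hj, hk, pow_add])))

/-- The situation of a minimal counterexample. -/
structure Su (G : Type*) [Group G] [Fintype G] (q a b c : ℕ) : Prop where
  hq : q.Prime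
  hO : pPrimeCore q G = ⊥
  a0 : 0 < a
  ab : a < b
  bc : b < c
  cd : ∀ χ, IsIrrCharacter G χ →
    charDegree χ = 1 ∨ charDegree χ = a ∨ charDegree χ = b ∨ charDegree χ = c
  nc : ∀ χ, IsIrrCharacter G χ → Kr χ (pCore q G) → charDegree χ ≠ c
  d3 : derivedSeries G 3 ≤ pCore q G
  d4 : derivedSeries G 4 ≠ ⊥

namespace Su
variable {q a b c : ℕ} (s : Su G q a b c)
include s

theorem invA {M : Subgroup G} [M.Normal] {χ : G → ℂ} (hχ : IsIrrCharacter G χ) {θ : M → ℂ}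
    (hθ : IsIrrCharacter M θ) (h : ov M χ θ) (hd : charDegree χ = a) :
    _root_.commutator G ≤ inertia M θ := by
  refine comm_le (a := a) (fun ψ h1 h2 => ?_) (Nat.le_of_dvd s.a0 (hd ▸ idx_dvd hχ hθ h))
  have := s.cd ψ h1
  have := s.ab
  have := s.bc
  omega

theorem invA' {χ : G → ℂ} (hχ : IsIrrCharacter G χ) {θ : pCore q G → ℂ}
    (hθ : IsIrrCharacter _ θ) (h : ov _ χ θ) (hd : charDegree χ = a) :
    _root_.commutator G ⊔ pCore q G ≤ inertia _ θ :=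
  sup_le (s.invA hχ hθ h hd) (le_inertia _ hθ.isClassFunction)

theorem nl {χ : G → ℂ} (hχ : IsIrrCharacter G χ) {L : Subgroup G}
    (hL : L ≤ _root_.commutator G ⊔ pCore q G) (h1 : Kr χ (pCore q G)) (h2 : ¬ Kr χ L) :
    charDegree χ = a ∨ charDegree χ = b := by
  have h3 : charDegree χ ≠ 1 := fun e =>
    h2 fun x hx => kr_sup hχ (kr_comm hχ.isCharacter e) h1 x (hL hx)
  have := s.cd χ hχ
  have := s.nc χ hχ h1
  omega

theorem X {L : Subgroup G} [L.Normal] (hFL : pCore q G ≤ L) (h : ⁅L, L⁆ ≤ pCore q G)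
    (hne : ¬ L ≤ pCore q G) (hL : L ≤ _root_.commutator G ⊔ pCore q G) :
    ∃ χ φ, IsIrrCharacter G χ ∧ IsIrrCharacter (pCore q G) φ ∧ ov (pCore q G) χ φ ∧
      ¬ q ∣ charDegree χ ∧ ¬ L ≤ inertia (pCore q G) φ ∧ (charDegree χ = b ∨ charDegree χ = c) := by
  obtain ⟨χ, φ, h1, h2, h3, h4, h5⟩ := xlem s.hq s.hO hFL h (qrel s.hq hFL h) hne
  refine ⟨χ, φ, h1, h2, h3, h4, h5, ?_⟩
  have h6 : charDegree χ ≠ 1 := fun e => h5 (by
    have h8 := idx_dvd h1 h2 h3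
    rw [e, Nat.dvd_one, index_eq_one] at h8
    rw [h8]; exact le_top)
  have h7 : charDegree χ ≠ a := fun e => h5 (hL.trans (s.invA' h1 h2 h3 e))
  have := s.cd χ h1
  omega

theorem FF : ⁅pCore q G, pCore q G⁆ ≠ ⊥ := fun e =>
  s.d4 (le_bot_iff.1 (e ▸ commutator_mono s.d3 s.d3))

theorem U {L : Subgroup G} [L.Normal] (hFL : pCore q G ≤ L) (h : ⁅L, L⁆ ≤ pCore q G)
    (hne : ¬ L ≤ pCore q G) (hL : L ≤ _root_.commutator G ⊔ pCore q G) {p k t : ℕ} (hp : p.Prime)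
    (hk : (pCore q G).relIndex L = p ^ k)
    (ht : ∀ ξ, IsIrrCharacter G ξ → Kr ξ (pCore q G) → ¬ Kr ξ L → charDegree ξ = t)
    (h2 : t = b ∨ (t = a ∧ ∃ e, p ^ e ∣ a ∧ ¬ p ^ e ∣ b)) : False := by
  have ha := s.a0
  have hab := s.ab
  have hF := pCore_isPGroup q G
  have inv : ∀ χ φ, IsIrrCharacter G χ → IsIrrCharacter (pCore q G) φ → ov _ χ φ →
      charDegree χ = a ∨ charDegree χ = b → L ≤ inertia (pCore q G) φ := by
    rintro χ φ h1 h3 h4 (h5 | h5)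
    · exact hL.trans (s.invA' h1 h3 h4 h5)
    obtain ⟨e, e1, e2⟩ : ∃ e, p ^ e ∣ t ∧ ¬ p ^ (e + 1) ∣ b := by
      rcases h2 with rfl | ⟨rfl, e, e1, e2⟩
      · exact ex_val hp (by omega)
      · exact ⟨e, e1, fun hd => e2 ((pow_dvd_pow p e.le_succ).trans hd)⟩
    exact le_of_pp (le_inertia _ h3.isClassFunction) hp hk (fun ψ c1 c2 c3 => ht ψ c1 c2 c3 ▸ e1)
      fun hd => e2 (hd.trans (h5 ▸ idx_dvd h1 h3 h4))
  obtain ⟨χ0, φ0, c1, c2, c3, c4, c5, c6⟩ := s.X hFL h hne hL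
  have hc : ¬ q ∣ c := by
    rcases c6 with e | e
    · exact absurd (inv χ0 φ0 c1 c2 c3 (Or.inr e)) c5
    · exact e ▸ c4
  have hq2 : ∀ χ, IsIrrCharacter G χ → q ∣ charDegree χ → charDegree χ = a ∨ charDegree χ = b := by
    intro χ d1 d2
    rcases s.cd χ d1 with e | e | e | e
    · exact absurd (Nat.dvd_one.1 (e ▸ d2)) s.hq.one_lt.ne'
    · exact Or.inl e
    · exact Or.inr e
    · exact absurd (e ▸ d2) hc
  obtain ⟨χ, d1, d2⟩ := ex_not_kr s.FF
  obtain ⟨φ, d3, d4⟩ := exists_irr_below (pCore q G) d1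
  have d5 := qd s.hq hF d1 d2 d3 d4
  obtain ⟨x, hx, hx'⟩ := SetLike.not_le_iff_exists.1 hne
  obtain ⟨μ, m1, m2⟩ := ex_lam h hx hx'
  obtain ⟨η, e1, e2, -⟩ := pq hFL s.hq hF (qrel s.hq hFL h) d3
    (inv χ φ d1 d3 d4 (hq2 χ d1 (d5.trans ((dvd_mul_left _ _).trans (deg_dvd d1 d3 d4))))) μ m1
  obtain ⟨ψ, f1, f2⟩ := exists_irr_above L e1
  obtain ⟨-, f3, f4⟩ := e2 ψ f1 f2
  have hm : ∀ ξ, IsIrrCharacter G ξ → ov L ξ (ln μ) → charDegree ξ = t := fun ξ g1 g2 =>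
    ht ξ g1 (kr_of_lam hFL g1 m1 g2) fun hk => m2 (lam_of_kr g1 g2 hk _ hx)
  have g1 : ∀ e, q ^ e ∣ t → q ^ (e + 1) ∣ charDegree ψ := fun e he =>
    (by rw [pow_succ]; exact mul_dvd_mul_left _ d5 : q ^ (e + 1) ∣ _).trans
      (f4 e fun ξ i1 i2 => hm ξ i1 i2 ▸ he)
  have g2 : t ∣ charDegree ψ := (Nat.dvd_iff_prime_pow_dvd_dvd _ _).2 fun l e hl he => by
    by_cases hlq : l = q
    · subst hlq; exact (pow_dvd_pow l e.le_succ).trans (g1 e he)
    · exact f3 l e hl hlq fun ξ i1 i2 => hm ξ i1 i2 ▸ he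
  have g3 : charDegree ψ ≠ t := fun e => by
    obtain ⟨v, v1, v2⟩ := ex_val s.hq f1.charDegree_pos.ne'
    exact v2 (g1 v (e ▸ v1))
  have g4 := hq2 ψ f1 (by simpa using g1 0 (by simp))
  rcases h2 with rfl | ⟨rfl, e, e1, e2⟩
  · have := Nat.le_of_dvd f1.charDegree_pos g2
    omega
  · exact e2 (e1.trans (g2.trans (by rw [g4.resolve_left g3])))

end Su

omit [Fintype G] in
theorem mem_of_pows {X : Subgroup G} {d : G} {m n : ℕ} (h : m.Coprime n) (h1 : d ^ m ∈ X)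
    (h2 : d ^ n ∈ X) : d ∈ X := by
  have e : (m : ℤ) * Nat.gcdA m n + n * Nat.gcdB m n = 1 := by
    rw [← Nat.gcd_eq_gcd_ab, h.gcd_eq_one]; rfl
  rw [← zpow_one d, ← e, zpow_add, zpow_mul, zpow_mul, zpow_natCast, zpow_natCast]
  exact X.mul_mem (X.zpow_mem h1 _) (X.zpow_mem h2 _)

/-- Groups with degrees in `{1, a, b}` and derived length three. -/
theorem strH {a b : ℕ} (a0 : 0 < a) (hab : a < b) (hcd : ∀ χ, IsIrrCharacter G χ →
    charDegree χ = 1 ∨ charDegree χ = a ∨ charDegree χ = b) (h3 : derivedSeries G 3 = ⊥)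
    (h2 : derivedSeries G 2 ≠ ⊥) : ∃ (A : Subgroup G) (p t : ℕ), A.Normal ∧ A ≠ ⊥ ∧
      A ≤ derivedSeries G 2 ∧ p.Prime ∧ IsPGroup p A ∧
      (∀ ξ, IsIrrCharacter G ξ → ¬ Kr ξ A → charDegree ξ = t) ∧
      (t = b ∨ (t = a ∧ ∃ e, p ^ e ∣ a ∧ ¬ p ^ e ∣ b)) := by
  set D := _root_.commutator G with hD
  have e2 : derivedSeries G 2 = ⁅D, D⁆ := rfl
  have e3 : ⁅⁅D, D⁆, ⁅D, D⁆⁆ = ⊥ := h3
  have nl : ∀ ξ, IsIrrCharacter G ξ → ∀ A, A ≤ D → ¬ Kr ξ A →
      charDegree ξ = a ∨ charDegree ξ = b := fun ξ h1 A hA hk =>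
    (hcd ξ h1).resolve_left fun e => hk fun x hx => kr_comm h1.isCharacter e x (hA hx)
  rw [e2] at h2 ⊢
  by_cases hn : Group.IsNilpotent D
  · obtain ⟨p, hp⟩ : ∃ p : Nat.Primes,
        ⁅(pCore p D).map D.subtype, (pCore p D).map D.subtype⁆ ≠ ⊥ := by
      by_contra hc
      push Not at hc
      have h4 := isNilpotent_iff_le_iSup_pCoreOf.1 hn
      refine h2 (le_bot_iff.1 ((commutator_mono h4 h4).trans ?_))
      rw [le_bot_iff, commutator_eq_bot_iff_le_centralizer, centralizer_iSup]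
      refine iSup_le fun p => le_iInf fun r => ?_
      by_cases e : p = r
      · subst e; exact commutator_eq_bot_iff_le_centralizer.1 (hc p)
      · have := Fact.mk p.2
        have := Fact.mk r.2
        exact le_centralizer_of_coprime_of_le hn (pCoreOf_le _ _) (pCoreOf_le _ _)
          (IsPGroup.coprime_card_of_ne p r (fun h => e (Subtype.ext h)) _ _
            (pCoreOf_isPGroup _ _) (pCoreOf_isPGroup _ _))
    have := pCoreOf_normal p D
    set P := (pCore p D).map D.subtype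
    have hPD : P ≤ D := pCoreOf_le _ _
    have hPP : ⁅P, P⁆ ≤ P := commutator_le_left P P
    obtain ⟨e, χ, c1, c2, c3, -, c4⟩ := t1s P p.2 (pCoreOf_isPGroup p D)
      fun e => hp (by rw [e]; simp)
    have hA := (pCoreOf_isPGroup p D).to_le hPP
    rcases nl χ c1 P hPD c2 with e1 | e1
    · refine ⟨_, p, b, inferInstance, hp, commutator_mono hPD hPD, p.2, hA, fun ξ d1 d2 =>
        (nl ξ d1 _ (hPP.trans hPD) d2).resolve_left fun e => c3 ?_, Or.inl rfl⟩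
      rw [e1, ← e]; exact c4 ξ d1 d2
    · have h5 : ∀ ξ, IsIrrCharacter G ξ → ¬ Kr ξ ⁅P, P⁆ → charDegree ξ = a := fun ξ d1 d2 =>
        (nl ξ d1 _ (hPP.trans hPD) d2).resolve_right fun e => c3 (by
          rw [e1, ← e]; exact c4 ξ d1 d2)
      obtain ⟨ξ, d1, d2⟩ := ex_not_kr hp
      exact ⟨_, p, a, inferInstance, hp, commutator_mono hPD hPD, p.2, hA, h5,
        Or.inr ⟨rfl, e + 1, h5 ξ d1 d2 ▸ c4 ξ d1 d2, e1 ▸ c3⟩⟩
  · obtain ⟨V, W, hc, hV, hW⟩ : ∃ V W, IsChiefFactor V W ∧ V ≤ D ∧ ¬ ⁅V, D⁆ ≤ W := by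
      by_contra hc
      push Not at hc
      exact hn (isNilpotent_of_commutator_chiefFactor_le inferInstance hc)
    have := hc.2.1
    have := hc.2.2.1
    obtain ⟨Y, -, ⟨y1, y2, y3, y4⟩, y5⟩ := exists_minimal_le
      (P := fun Y : Subgroup G => Y.Normal ∧ Y ≤ ⁅D, D⁆ ∧ Y ≤ V ∧ ¬ Y ≤ W) (H := ⁅V, D⁆)
      ⟨inferInstance, commutator_mono hV le_rfl, commutator_le_left V D, hW⟩
    have hYW : Y ⊔ W = V := ((hc.2.2.2 _ inferInstance le_sup_right
      (sup_le y3 hc.1.le)).resolve_left fun e => y4 (e ▸ le_sup_left))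
    have hY : ⁅Y, D⁆ = Y := y5 _ ⟨inferInstance, (commutator_le_left Y D).trans y2,
      (commutator_le_left Y D).trans y3, fun h => hW (by
        rw [← hYW, commutator_sup_left_of_normal]
        exact sup_le h (commutator_le_left W D))⟩ (commutator_le_left Y D)
    have hYY : ⁅Y, Y⁆ = ⊥ := le_bot_iff.1 (e3 ▸ commutator_mono y2 y2)
    have hs : Group.IsSolvable G := ⟨⟨3, h3⟩⟩
    obtain ⟨p, hp, -, p1, -⟩ := exists_prime_of_isChiefFactor hc inferInstance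
    have := Fact.mk hp
    have hP : IsPGroup p Y := by
      have h4 := pCoreOf_sup_pPrimeCoreOf (H := Y)
        (isNilpotent_of_commutator_commutator_eq_bot (by rw [hYY]; simp)) p
      rw [← pCoreOf_eq_self_iff]
      refine y5 _ ⟨pCoreOf_normal p Y, (pCoreOf_le p Y).trans y2, (pCoreOf_le p Y).trans y3,
        fun h => y4 ?_⟩ (pCoreOf_le p Y)
      rw [← h4]
      refine sup_le h fun x hx => mem_of_pows (pPrimeCoreOf_coprime p Y) ?_
        (p1 x (y3 (pPrimeCoreOf_le p Y hx)))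
      have := congrArg Subtype.val (pow_card_eq_one' (x := (⟨x, hx⟩ : (pPrimeCore p Y).map Y.subtype)))
      rw [show x ^ _ = 1 from this]; exact W.one_mem
    refine ⟨Y, p, b, y1, fun e => y4 (e ▸ bot_le), y2, hp, hP, fun ξ d1 d2 =>
      (nl ξ d1 _ (y2.trans (commutator_le_left D D)) d2).resolve_left fun e => d2 ?_, Or.inl rfl⟩
    obtain ⟨μ, -, m2⟩ := lam_below hYY.le d1 fun x hx => by rw [mem_bot.1 hx]
    have h5 : D ≤ inertia Y (ln μ) := comm_le (a := a) (fun ψ h1 h2 => by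
      have := hcd ψ h1; omega) (Nat.le_of_dvd a0 (e ▸ idx_dvd d1 (isIrrCharacter_hom μ) m2))
    exact kr_of_lam le_rfl d1 (fun n hn => lam_comm h5 n (by rwa [commutator_comm, hY])) m2

theorem Su.two {q a b c : ℕ} (s : Su G q a b c) : derivedSeries G 2 ≤ pCore q G := by
  by_contra hn
  let π := QuotientGroup.mk' (pCore q G)
  have hπ : Function.Surjective π := QuotientGroup.mk'_surjective _
  have := Fintype.ofFinite (G ⧸ pCore q G)
  have := Fact.mk s.hq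
  obtain ⟨A, p, t, h1, h2, h3, h4, h5, h6, h7⟩ := strH (G := G ⧸ pCore q G) s.a0 s.ab
    (fun χ hχ => by
      have c1 := s.cd _ hχ.inflate
      have c2 := s.nc _ hχ.inflate fun x hx => inflate_apply_of_mem _ χ hx
      have c3 : charDegree (fun g : G => χ (g : G ⧸ pCore q G)) = charDegree χ :=
        charDegree_congr rfl
      rw [c3] at c1 c2
      omega)
    (by rw [← map_derivedSeries_eq hπ, map_mk'_eq_bot_iff]; exact s.d3)
    (by rw [← map_derivedSeries_eq hπ, Ne, map_mk'_eq_bot_iff]; exact hn)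
  have := Fact.mk h4
  have := h1.comap π
  obtain ⟨k, hk⟩ := h5.exists_card_eq
  have h8 : A.comap π ≤ derivedSeries G 2 ⊔ pCore q G := by
    rw [← comap_map_mk', map_derivedSeries_eq hπ]; exact comap_mono h3
  refine s.U (L := A.comap π) (le_comap_mk'' _ A) ?_ (fun h => h2 ?_)
    (h8.trans (sup_le_sup_right (commutator_le_left _ _) _)) h4
    (by rw [← card_map_mk'_eq_relIndex, map_comap_mk', hk]) (fun ξ c1 c2 c3 => ?_) h7
  · rw [commutator_le_iff_map_mk', map_comap_mk', ← le_bot_iff,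
      ← (map_mk'_eq_bot_iff _ _).2 s.d3, map_derivedSeries_eq hπ]
    exact commutator_mono h3 h3
  · rw [← map_comap_mk' _ A, map_mk'_eq_bot_iff]; exact h
  · obtain ⟨ξ', d1, d2⟩ := c1.exists_deflate _ c2
    rw [← h6 ξ' d1 fun hk => c3 fun x hx => by rw [← d2, ← d2]; exact hk _ hx]
    exact charDegree_congr (d2 1).symm

end Cfsg.Lib.Gar
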