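import Cfsg.Agent.Lib.Gar.D

/-! Garrison's theorem: the case `G'' ≤ O_q(G)`. -/

set_option autoImplicit false

namespace Cfsg.Lib.Gar
open Cfsg.Lib.Char Cfsg.Lib.CharDeg Cfsg.Lib.Clifford Cfsg.Lib.Induce Cfsg.Lib.Core Subgroup
open scoped commutatorElement ComplexConjugate

variable {G : Type*} [Group G] [Fintype G]

omit [Fintype G] in
theorem nrm_ge {M : Subgroup G} (h : _root_.commutator G ≤ M) : M.Normal :=
  ⟨fun n hn g => by
    have : g * n * g⁻¹ = ⁅g, n⁆ * n := by simp [commutatorElement_def]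
    rw [this]
    exact M.mul_mem (h (commutator_mem_commutator (mem_top g) (mem_top n))) hn⟩

omit [Fintype G] in
theorem comm_LL {F : Subgroup G} [F.Normal] (h : derivedSeries G 2 ≤ F) :
    ⁅_root_.commutator G ⊔ F, _root_.commutator G ⊔ F⁆ ≤ F := by
  rw [commutator_sup_left_of_normal, commutator_sup_right_of_normal]
  exact sup_le (sup_le h (commutator_le_right _ _)) (commutator_le_left _ _)

theorem sylTop (L : Subgroup G) [L.Normal] {l : ℕ} (hl : l.Prime) :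
    ∃ U : Subgroup G, L ≤ U ∧ (∃ k, L.relIndex U = l ^ k) ∧ ¬ l ∣ U.index := by
  obtain ⟨U, h1, -, h2, h3⟩ := sylOver (L := L) le_top hl
  exact ⟨U, h1, h2, by rwa [relIndex_top_right] at h3⟩

theorem le_of_pow {L U T : Subgroup G} [U.Normal] (h : L ≤ T) {l k : ℕ} (hl : l.Prime)
    (hk : L.relIndex U = l ^ k) (hT : ¬ l ∣ T.index) : U ≤ T :=
  le_of_cop h (hk ▸ Nat.Coprime.pow_left _ (hl.coprime_iff_not_dvd.2 hT))

theorem ord_dvd {F L : Subgroup G} [F.Normal] (μ : L →* ℂˣ) (h : ∀ n : L, (n : G) ∈ F → μ n = 1) :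
    orderOf μ ∣ F.relIndex L :=
  orderOf_hom_dvd_index μ (F.subgroupOf L) fun n hn => h n hn

/-- Averaging a linear character over a subgroup. -/
noncomputable def avg {L : Subgroup G} [L.Normal] (S : Subgroup G) (ν : L →* ℂˣ) : L →* ℂˣ where
  toFun y := ∏ s : S, ν (MulAut.conjNormal (s : G) y)
  map_one' := by simp
  map_mul' x y := by simp [Finset.prod_mul_distrib]

theorem avg_inv {L : Subgroup G} [hL : L.Normal] (S : Subgroup G) (ν : L →* ℂˣ) :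
    S ≤ inertia L (ln (avg S ν)) := fun g hg => mem_inertia_hom.2 fun y => by
  change ∏ s : S, ν _ = ∏ s : S, ν _
  refine Fintype.prod_equiv (Equiv.mulRight (⟨g, hg⟩ : S)) _ _ fun s => congrArg ν ?_
  exact Subtype.ext (by simp [mul_assoc])

namespace Su
variable {q a b c : ℕ} (s : Su G q a b c)
include s

theorem LL : ⁅_root_.commutator G ⊔ pCore q G, _root_.commutator G ⊔ pCore q G⁆ ≤ pCore q G :=
  comm_LL s.two

/-- a character of `q'`-degree over an invariant linear character -/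
theorem qfree {μ : ↥(_root_.commutator G ⊔ pCore q G) →* ℂˣ}
    (h : ∀ n : ↥(_root_.commutator G ⊔ pCore q G), (n : G) ∈ pCore q G → μ n = 1) (h1 : μ ≠ 1)
    (h2 : ¬ q ∣ (inertia _ (ln μ)).index) : ∃ ξ, IsIrrCharacter G ξ ∧ ov _ ξ (ln μ) ∧
      Kr ξ (pCore q G) ∧ ¬ q ∣ charDegree ξ ∧ (charDegree ξ = a ∨ charDegree ξ = b) := by
  obtain ⟨ξ, c1, c2, c3⟩ := lemQ μ (e := 1) s.hq
    (fun hd => qrel s.hq le_sup_right s.LL (hd.trans (ord_dvd μ h))) (by rwa [pow_one])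
  have c4 := kr_of_lam le_sup_right c1 h c2
  exact ⟨ξ, c1, c2, c4, by rwa [pow_one] at c3, s.nl c1 le_rfl c4 fun hk =>
    h1 (MonoidHom.ext fun x => lam_of_kr c1 c2 hk x x.2)⟩

theorem caseB (ha : q ∣ a) (hc : q ∣ c) (hb : ¬ q ∣ b) {ξ : G → ℂ} (hξ : IsIrrCharacter G ξ)
    (hk : Kr ξ (pCore q G)) (hd : charDegree ξ = b) : False := by
  have := Fact.mk s.hq
  have hLL := s.LL
  have hq := qrel s.hq le_sup_right hLL
  set F := pCore q G with hF
  set L := _root_.commutator G ⊔ F with hL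
  obtain ⟨P⟩ : Nonempty (Sylow q G) := inferInstance
  have hM : ((P : Subgroup G) ⊔ L).Normal := nrm_ge (le_sup_left.trans le_sup_right)
  set M := (P : Subgroup G) ⊔ L with hMd
  have hMi : ¬ q ∣ M.index := fun h => P.not_dvd_index (h.trans (index_dvd_of_le le_sup_left))
  let π := QuotientGroup.mk' F
  have hπ : Function.Surjective π := QuotientGroup.mk'_surjective _
  have := hM.map π hπ
  let D : Subgroup G := L ⊓ (centralizer (M.map π : Set (G ⧸ F))).comap π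
  have hD : D.Normal := inferInstance
  have hFD : F ≤ D := le_inf le_sup_right fun x hx => by
    rw [mem_comap, show π x = 1 from (QuotientGroup.eq_one_iff x).2 hx]; exact one_mem _
  have hD1 : ∀ x ∈ D, ∀ m ∈ M, ⁅m, x⁆ ∈ F := fun x hx m hm => by
    rw [← QuotientGroup.eq_one_iff]
    change π ⁅m, x⁆ = 1
    rw [map_commutatorElement, commutatorElement_eq_one_iff_mul_comm]
    exact (mem_inf.1 hx).2 _ (mem_map_of_mem π hm)
  have hDF : ¬ D ≤ F := fun hle => by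
    obtain ⟨μ, m1, m2⟩ := lam_below hLL hξ hk
    have h1 : (P : Subgroup G) ≤ inertia L (ln μ) := by
      have := nrm_ge (le_sup_left.trans (le_inertia L (isIrrCharacter_hom μ).isClassFunction))
      exact le_of_isPGroup_of_coprime_index P.isPGroup' (coprime_iff_not_dvd.2 fun h =>
        hb (h.trans (hd ▸ idx_dvd hξ (isIrrCharacter_hom μ) m2)))
    have hn : (L.map π).Normal := Normal.map inferInstance π hπ
    have h2 := Coprime.commutator_sup_centralizer (A := (P : Subgroup G).map π) (K := L.map π)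
      le_normalizer_of_normal (coprime_card_of_isPGroup (P.isPGroup'.map π)
        (by rw [card_map_mk'_eq_relIndex]; exact coprime_iff_not_dvd.2 hq))
      (Or.inl (isSolvable_of_isPGroup (P.isPGroup'.map π)))
    have h3 : L.map π ⊓ centralizer ((P : Subgroup G).map π : Set (G ⧸ F)) = ⊥ := by
      rw [eq_bot_iff]
      rintro _ ⟨⟨x, hx, rfl⟩, hx'⟩
      refine (QuotientGroup.eq_one_iff x).2 (hle (mem_inf.2 ⟨hx, ?_⟩))
      rw [mem_comap, hMd, Subgroup.map_sup, centralizer_sup]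
      refine mem_inf.2 ⟨hx', ?_⟩
      rw [commutator_le_iff_map_mk', commutator_eq_bot_iff_le_centralizer] at hLL
      exact hLL (mem_map_of_mem π hx)
    rw [h3, sup_bot_eq, ← map_commutator] at h2
    have h4 : L ≤ ⁅L, (P : Subgroup G)⁆ ⊔ F := (map_mk'_le_map_mk'_iff F _ _).1 h2.ge
    have h5 : ⁅L, (P : Subgroup G)⁆ ⊔ F ≤ μ.ker.map L.subtype := sup_le
      (fun x hx => ⟨⟨x, commutator_le_left L _ hx⟩,
        lam_comm h1 _ (by rwa [commutator_comm]), rfl⟩)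
      fun x hx => ⟨⟨x, mem_sup_right hx⟩, m1 _ hx, rfl⟩
    have h6 : Kr ξ L := kr_of_lam le_rfl hξ (fun n hn => by
      obtain ⟨z, hz, e⟩ := h5 (h4 hn)
      exact (Subtype.ext e : z = n) ▸ hz) m2
    have h7 : ξ 1 = 1 := apply_one_eq_one_of_commutator hξ fun x y =>
      h6 _ (mem_sup_left (commutator_mem_commutator (mem_top x) (mem_top y)))
    have := hξ.isCharacter.charDegree_eq_one_iff.2 h7
    have := s.a0
    have := s.ab
    omega
  obtain ⟨χ, φ, c1, c2, c3, c4, c5, c6⟩ := s.X hFD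
    ((commutator_mono inf_le_left inf_le_left).trans hLL) hDF inf_le_left
  have c7 : charDegree χ = b := c6.resolve_right fun e => c4 (e ▸ hc)
  have c8 := idx_dvd c1 c2 c3
  have hFT : F ≤ inertia F φ := le_inertia F c2.isClassFunction
  set T := inertia F φ
  obtain ⟨x, hx, hx'⟩ := SetLike.not_le_iff_exists.1 c5
  have hxL : x ∈ L := (mem_inf.1 hx).1
  obtain ⟨ν, n1, n2⟩ := ex_lam (hLL.trans hFT) hxL hx'
  obtain ⟨Q⟩ : Nonempty (Sylow q T) := inferInstance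
  let S := (Q : Subgroup T).map T.subtype
  have hS : IsPGroup q S := Q.isPGroup'.map _
  have hST : S ≤ T := map_subtype_le _
  have hSM : S ≤ M := le_of_isPGroup_of_coprime_index hS (coprime_iff_not_dvd.2 hMi)
  have hSi : ¬ q ∣ S.index := by
    rw [index_map_subtype, s.hq.dvd_mul]
    exact fun h => h.elim Q.not_dvd_index fun h => c4 (h.trans c8)
  have m1 : ∀ n : L, (n : G) ∈ T → avg S ν n = 1 := fun n hn =>
    Finset.prod_eq_one fun t _ => n1 _ (T.mul_mem (T.mul_mem (hST t.2) hn) (T.inv_mem (hST t.2)))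
  have m2 : avg S ν ≠ 1 := fun e => by
    have e1 : ∏ t : S, ν (MulAut.conjNormal (t : G) ⟨x, hxL⟩) = 1 := DFunLike.congr_fun e ⟨x, hxL⟩
    have e2 : ∀ t : S, ν (MulAut.conjNormal (t : G) ⟨x, hxL⟩) = ν ⟨x, hxL⟩ := fun t => by
      have e3 := hD1 x hx t (hSM t.2)
      have : MulAut.conjNormal (t : G) (⟨x, hxL⟩ : L) = ⟨_, mem_sup_right e3⟩ * ⟨x, hxL⟩ :=
        Subtype.ext (by simp [commutatorElement_def])
      rw [this, map_mul, n1 _ (hFT e3), one_mul]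
    rw [Finset.prod_congr rfl fun t _ => e2 t, Finset.prod_const, Finset.card_univ,
      ← Nat.card_eq_fintype_card] at e1
    refine n2 (RelGraph.eq_one_of_coprime (coprime_card_of_isPGroup hS
      (coprime_iff_not_dvd.2 hq)) e1 ?_)
    rw [← map_pow]
    exact n1 _ (hFT (F.pow_relIndex_mem hxL))
  obtain ⟨ξ', d1, d2, -, d4, d5⟩ := s.qfree (fun n hn => m1 n (hFT hn)) m2
    fun h => hSi (h.trans (index_dvd_of_le (avg_inv S ν)))
  have d6 : charDegree ξ' = b := d5.resolve_left fun e => d4 (e ▸ ha)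
  obtain ⟨ψ, f1, f2, f3⟩ := mack T L (isIrrCharacter_hom (avg S ν))
    fun y hy => by simp [m1 y hy]
  have f4 := same_deg le_sup_left d1 f1 (isIrrCharacter_hom _) d2 f2
  have f5 := charDegree_lt_index_of_constituent (H := T) (fun e => hx' (e ▸ mem_top x)) f1
    ((ov_iff f1.isClassFunction).2 f3)
  have := Nat.le_of_dvd c1.charDegree_pos c8
  omega

theorem cop {w : ℕ} (ha : q ∣ a)
    (hH : ∀ ξ, IsIrrCharacter G ξ → Kr ξ (pCore q G) → charDegree ξ ≠ b)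
    (hw : ∀ χ, IsIrrCharacter G χ → ¬ Kr χ ⁅pCore q G, pCore q G⁆ →
      charDegree χ = a ∨ charDegree χ = w) {χ : G → ℂ} (hχ : IsIrrCharacter G χ)
    (hk : ¬ Kr χ ⁅pCore q G, pCore q G⁆) (hd : charDegree χ = a) {p : ℕ} (hp : p.Prime)
    (hpd : p ∣ (pCore q G).relIndex (_root_.commutator G ⊔ pCore q G)) : ¬ p ∣ a ∧ ¬ p ∣ w := by
  have hLL := s.LL
  have hq := qrel s.hq le_sup_right hLL
  have hFq := pCore_isPGroup q G
  set F := pCore q G with hF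
  set L := _root_.commutator G ⊔ F with hL
  have hFL : F ≤ L := le_sup_right
  have hpq : p ≠ q := fun e => hq (e ▸ hpd)
  obtain ⟨U, hLU, ⟨k, hk1⟩, hU⟩ := sylTop L hp
  obtain ⟨M, hLM, -, hM⟩ := sylTop L s.hq
  have := nrm_ge (le_sup_left.trans hLU)
  have := nrm_ge (le_sup_left.trans hLM)
  obtain ⟨ν, n1, n2, n3⟩ := fix hLL hp hpd
  have n4 : U ≤ inertia L (ln ν) :=
    le_of_pow (le_inertia L (isIrrCharacter_hom ν).isClassFunction) hp hk1 n3
  have n5 : ∀ n : L, (n : G) ∈ ⁅U, L⁆ ⊔ F → ν n = 1 := fun n hn => by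
    have h5 : ⁅U, L⁆ ⊔ F ≤ ν.ker.map L.subtype := sup_le
      (fun x hx => ⟨⟨x, commutator_le_right U L hx⟩, lam_comm n4 _ hx, rfl⟩)
      fun x hx => ⟨⟨x, hFL hx⟩, n2 _ hx, rfl⟩
    obtain ⟨z, hz, e⟩ := h5 hn
    exact (Subtype.ext e : z = n) ▸ hz
  have hne : ¬ L ≤ ⁅U, U⁆ ⊔ (⁅U, L⁆ ⊔ F) := fun hle => by
    have t1 : ⁅U, M⁆ ≤ L := (commutator_mono le_top le_top).trans le_sup_left
    have t2 : ⁅⁅U, M⁆, U⁆ ≤ ⁅U, L⁆ ⊔ F :=
      (commutator_mono t1 le_rfl).trans (by rw [commutator_comm]; exact le_sup_left)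
    have t3 : ⁅⁅U, U⁆, M⁆ ≤ ⁅U, L⁆ ⊔ F :=
      three_subgroups_normal _ t2 (by rw [commutator_comm M]; exact t2)
    have t4 : ⁅M, L⁆ ≤ ⁅U, L⁆ ⊔ F := (commutator_mono le_rfl hle).trans (by
      rw [commutator_sup_right_of_normal, commutator_comm]
      exact sup_le t3 (commutator_le_right _ _))
    obtain ⟨ξ, c1, -, c2, c3, c4⟩ := s.qfree n2 n1
      fun h => hM (h.trans (index_dvd_of_le (le_inertia_of t4 n5)))
    exact c3 ((c4.resolve_right (hH ξ c1 c2)) ▸ ha)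
  obtain ⟨y, hy, hy'⟩ := SetLike.not_le_iff_exists.1 hne
  obtain ⟨β, b1, b2⟩ := ex_lam (K := ⁅U, U⁆ ⊔ (⁅U, L⁆ ⊔ F)) le_sup_left (hLU hy) hy'
  have b3 : ∀ n : U, (n : G) ∈ F → β n = 1 := fun n hn => b1 n (mem_sup_right (mem_sup_right hn))
  have hpa : ¬ p ∣ a := by
    obtain ⟨ξ, c1, c2, c3⟩ := ex_over U (isCharacter_hom β) (m := p)
      (by rwa [charDegree_hom, mul_one])
    have c4 := kr_of_lam (hFL.trans hLU) c1 b3 c2
    rwa [(s.nl c1 le_rfl c4 fun h => b2 (lam_of_kr c1 c2 h _ hy)).resolve_right (hH ξ c1 c4)] at c3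
  obtain ⟨φ, f1, f2⟩ := exists_irr_below F hχ
  have f3 : L ≤ inertia F φ := s.invA' hχ f1 f2 hd
  have m1 : ∀ n : L, (n : G) ∈ F → β.comp (inclusion hLU) n = 1 := fun n hn => b3 _ hn
  obtain ⟨η, -, e2, e3⟩ := pq hFL s.hq hFq hq f1 f3 (β.comp (inclusion hLU)) m1
  obtain ⟨ψ, g1, g2, g3⟩ := e3 U hLU
    (le_of_pow f3 hp hk1 fun h => hpa (h.trans (hd ▸ idx_dvd hχ f1 f2)))
    (by
      rw [← relIndex_mul_relIndex F L U hFL hLU, hk1, s.hq.dvd_mul]
      exact fun h => h.elim hq fun h => hpq ((Nat.prime_dvd_prime_iff_eq s.hq hp).1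
        (s.hq.dvd_of_dvd_pow h)).symm) β (fun _ => rfl) p
    (by
      rw [hp.dvd_mul]
      refine fun h => h.elim hU fun h => hpa (h.trans ?_)
      exact hd ▸ (dvd_mul_left _ _).trans (deg_dvd hχ f1 f2))
  obtain ⟨g4, -, g5⟩ := e2 ψ g1 g2
  obtain ⟨v, v1, v2⟩ := ex_val s.hq s.a0.ne'
  have g6 := g5 v fun ξ c1 c2 => by
    have c4 := kr_of_lam hFL c1 m1 c2
    rwa [(s.nl c1 le_rfl c4 fun h => b2 (lam_of_kr c1 c2 h ⟨y, hy⟩ hy)).resolve_right
      (hH ξ c1 c4)]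
  have g7 : q ^ (v + 1) ∣ charDegree ψ :=
    (by rw [pow_succ]; exact mul_dvd_mul_left _ (qd s.hq hFq hχ hk f1 f2) :
      q ^ (v + 1) ∣ _).trans g6
  rcases hw ψ g1 (ov_kr (commutator_le_left F F) hχ g1 f1 f2 g4 hk) with e | e
  · exact absurd (e ▸ g7) v2
  · exact ⟨hpa, e ▸ g3⟩

theorem fin {w : ℕ} (ha : q ∣ a)
    (hH : ∀ ξ, IsIrrCharacter G ξ → Kr ξ (pCore q G) → charDegree ξ ≠ b)
    (hw : ∀ χ, IsIrrCharacter G χ → ¬ Kr χ ⁅pCore q G, pCore q G⁆ →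
      charDegree χ = a ∨ charDegree χ = w) {χ : G → ℂ} (hχ : IsIrrCharacter G χ)
    (hk : ¬ Kr χ ⁅pCore q G, pCore q G⁆) (hd : charDegree χ = a) : False := by
  have hc := fun p hp hpd => s.cop ha hH hw hχ hk hd (p := p) hp hpd
  have hLL := s.LL
  have hq := qrel s.hq le_sup_right hLL
  have hFq := pCore_isPGroup q G
  set F := pCore q G with hF
  set L := _root_.commutator G ⊔ F with hL
  have h1 : ⁅F, F⁆ ≤ F := commutator_le_left F F
  have h2 : ⁅⁅F, F⁆, ⁅F, F⁆⁆ ≤ ⁅F, F⁆ := commutator_le_left _ _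
  have h3 : ⁅⁅⁅F, F⁆, ⁅F, F⁆⁆, ⁅⁅F, F⁆, ⁅F, F⁆⁆⁆ = ⊥ := by
    by_contra h0
    have h4 := commutator_le_left ⁅⁅F, F⁆, ⁅F, F⁆⁆ ⁅⁅F, F⁆, ⁅F, F⁆⁆
    obtain ⟨e1, χ1, a1, a2, a3, -, a4⟩ := t1s ⁅F, F⁆ s.hq (hFq.to_le h1) s.FF
    obtain ⟨e2, χ2, b1, b2, b3, -, b4⟩ := t1s ⁅⁅F, F⁆, ⁅F, F⁆⁆ s.hq (hFq.to_le (h2.trans h1))
      fun e => h0 (by rw [e]; simp)
    obtain ⟨χ3, c1, c2⟩ := ex_not_kr h0
    have c3 : ¬ Kr χ3 ⁅⁅F, F⁆, ⁅F, F⁆⁆ := fun h => c2 fun x hx => h x (h4 hx)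
    have d1 : charDegree χ1 ≠ charDegree χ2 := fun e => a3 (e ▸ a4 χ2 b1 b2)
    have d2 : charDegree χ1 ≠ charDegree χ3 := fun e => a3 (e ▸ a4 χ3 c1 c3)
    have d3 : charDegree χ2 ≠ charDegree χ3 := fun e => b3 (e ▸ b4 χ3 c1 c2)
    have := hw χ1 a1 a2
    have := hw χ2 b1 fun h => b2 fun x hx => h x (h2 hx)
    have := hw χ3 c1 fun h => c3 fun x hx => h x (h2 hx)
    omega
  let C := centralizer ((⁅F, F⁆ : Subgroup G) : Set G)
  have h4 : L ≤ F ⊔ C := fun d hd => by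
    obtain ⟨k, m, hm, e⟩ := Nat.exists_eq_pow_mul_and_not_dvd (orderOf_pos d).ne' q s.hq.one_lt.ne'
    refine mem_of_pows (m := F.relIndex L) (n := q ^ k)
      (Nat.Coprime.pow_right _ (s.hq.coprime_iff_not_dvd.2 hq).symm)
      (mem_sup_left (F.pow_relIndex_mem hd)) (mem_sup_right fun x hx => ?_)
    have := cent s.hq hFq (L := L) (fun ψ c1 c2 => Nat.Coprime.symm ((Nat.coprime_of_dvd fun p hp c3 c4 => by
      rcases hw ψ c1 c2 with e | e
      · exact (hc p hp c4).1 (e ▸ c3)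
      · exact (hc p hp c4).2 (e ▸ c3)))) (L.pow_mem hd (q ^ k))
      (fun h => hm (h.trans (orderOf_dvd_of_pow_eq_one (by rw [← pow_mul, ← e, pow_orderOf_eq_one]))))
      _ inferInstance le_rfl x hx
    rw [mul_inv_eq_iff_eq_mul] at this
    exact this.symm
  have h5 : derivedSeries G 2 ≤ ⁅F, F⁆ ⊔ (C ⊓ F) := by
    rw [← sup_inf_of_le_normalizer h1 le_normalizer_of_normal]
    refine le_inf ?_ s.two
    refine (commutator_mono (le_sup_left.trans h4) (le_sup_left.trans h4)).trans ?_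
    rw [commutator_sup_left_of_normal, commutator_sup_right_of_normal]
    exact sup_le (sup_le le_sup_left (le_sup_of_le_right (commutator_le_right _ _)))
      (le_sup_of_le_right (commutator_le_left _ _))
  have hC : ∀ X Y : Subgroup G, X ≤ C → Y ≤ ⁅F, F⁆ → ⁅X, Y⁆ = ⊥ := fun X Y hX hY =>
    le_bot_iff.1 ((commutator_mono hX hY).trans
      (commutator_eq_bot_iff_le_centralizer.2 le_rfl).le)
  have h6 : derivedSeries G 3 ≤ ⁅⁅F, F⁆, ⁅F, F⁆⁆ ⊔ (C ⊓ ⁅F, F⁆) := by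
    refine (commutator_mono h5 h5).trans ?_
    rw [commutator_sup_left_of_normal, commutator_sup_right_of_normal,
      commutator_sup_right_of_normal, hC _ _ inf_le_left le_rfl, commutator_comm _ (C ⊓ F),
      hC _ _ inf_le_left le_rfl]
    refine sup_le (sup_le le_sup_left bot_le) (sup_le bot_le (le_sup_of_le_right (le_inf ?_ ?_)))
    · exact (commutator_le_left _ _).trans inf_le_left
    · exact commutator_mono inf_le_right inf_le_right
  refine s.d4 (le_bot_iff.1 ((commutator_mono h6 h6).trans ?_))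
  rw [commutator_sup_left_of_normal, commutator_sup_right_of_normal, h3,
    hC _ _ inf_le_left (sup_le h2 inf_le_right), commutator_comm, hC _ _ inf_le_left h2]
  simp

theorem false (hN : ¬ _root_.commutator G ≤ pCore q G) : False := by
  have hLL := s.LL
  have hq := qrel s.hq le_sup_right hLL
  have hFq := pCore_isPGroup q G
  have hne : ¬ _root_.commutator G ⊔ pCore q G ≤ pCore q G := fun h => hN (le_sup_left.trans h)
  by_cases hA : ∃ ξ, IsIrrCharacter G ξ ∧ Kr ξ (pCore q G) ∧ charDegree ξ = a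
  swap
  · obtain ⟨p, hp, hpd⟩ := Nat.exists_prime_and_dvd (mt relIndex_eq_one.1 hne)
    obtain ⟨K, h1, h2, h3, h4, k, hk⟩ := sub_p le_sup_right hLL hp hpd
    exact s.U h2 ((commutator_mono h3 h3).trans hLL) h4 h3 hp hk
      (fun ξ c1 c2 c3 => (s.nl c1 h3 c2 c3).resolve_left fun e => hA ⟨ξ, c1, c2, e⟩) (Or.inl rfl)
  obtain ⟨ξa, a1, a2, a3⟩ := hA
  obtain ⟨χ0, -, x1, -, -, x2, -, x3⟩ := s.X le_sup_right hLL hne le_rfl
  obtain ⟨w, hw⟩ : ∃ w, (charDegree χ0 = b ∧ w = c) ∨ (charDegree χ0 = c ∧ w = b) :=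
    x3.elim (fun e => ⟨c, Or.inl ⟨e, rfl⟩⟩) fun e => ⟨b, Or.inr ⟨e, rfl⟩⟩
  set F := pCore q G with hF
  set L := _root_.commutator G ⊔ F with hL
  have hqd : ∀ χ, IsIrrCharacter G χ → ¬ Kr χ ⁅F, F⁆ → q ∣ charDegree χ := fun χ c1 c2 => by
    obtain ⟨φ, d3, d4⟩ := exists_irr_below F c1
    exact (qd s.hq hFq c1 c2 d3 d4).trans ((dvd_mul_left _ _).trans (deg_dvd c1 d3 d4))
  have hF' : ∀ χ, IsIrrCharacter G χ → ¬ Kr χ ⁅F, F⁆ → charDegree χ = a ∨ charDegree χ = w := by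
    intro χ c1 c2
    have c3 := hqd χ c1 c2
    have c4 : charDegree χ ≠ 1 := fun e => s.hq.one_lt.ne' (Nat.dvd_one.1 (e ▸ c3))
    have c5 : charDegree χ ≠ charDegree χ0 := fun e => x2 (e ▸ c3)
    have := s.cd χ c1
    omega
  have KF : ∀ χ, IsIrrCharacter G χ → charDegree χ = a → ∀ M : Subgroup G, M.Normal → M ≤ ⁅F, F⁆ →
      ¬ Kr χ M → ∀ ξ, IsIrrCharacter G ξ → Kr ξ F → ∃ ψ, IsIrrCharacter G ψ ∧ ¬ Kr ψ M ∧
        ∀ e, q ^ e ∣ charDegree ξ → q ^ (e + 1) ∣ charDegree ψ := by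
    intro χ c1 c2 M hM hle c3 ξ d1 d2
    obtain ⟨φ, f1, f2⟩ := exists_irr_below F c1
    obtain ⟨μ, m1, m2⟩ := lam_below hLL d1 d2
    obtain ⟨η, e1, e2, -⟩ := pq le_sup_right s.hq hFq hq f1 (s.invA' c1 f1 f2 c2) μ m1
    obtain ⟨ψ, g1, g2⟩ := exists_irr_above L e1
    obtain ⟨g3, -, g4⟩ := e2 ψ g1 g2
    refine ⟨ψ, g1, ov_kr (hle.trans (commutator_le_left F F)) c1 g1 f1 f2 g3 c3, fun e he => ?_⟩
    refine (?_ : q ^ (e + 1) ∣ _).trans (g4 e fun ξ' i1 i2 => by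
      rwa [same_deg le_sup_left d1 i1 (isIrrCharacter_hom μ) m2 i2])
    rw [pow_succ]
    exact mul_dvd_mul_left _ (qd s.hq hFq c1 (fun h => c3 fun x hx => h x (hle hx)) f1 f2)
  have h3 : derivedSeries G 3 ≤ ⁅F, F⁆ := commutator_mono s.two s.two
  have h4 : derivedSeries G 4 ≤ derivedSeries G 3 := commutator_le_left _ _
  obtain ⟨e, χ3, b1, b2, b3, -, b4⟩ := t1s (derivedSeries G 3) s.hq (hFq.to_le s.d3)
    fun e => s.d4 (le_bot_iff.1 (e ▸ h4))
  obtain ⟨χ4, c1, c2⟩ := ex_not_kr s.d4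
  have c3 := b4 χ4 c1 c2
  have b5 : ¬ Kr χ3 ⁅F, F⁆ := fun h => b2 fun x hx => h x (h3 hx)
  have b6 := hF' χ3 b1 b5
  have b7 : charDegree χ3 ≠ charDegree χ4 := fun e => b3 (e ▸ c3)
  obtain ⟨v, v1, v2⟩ := ex_val s.hq s.a0.ne'
  rcases hF' χ4 c1 fun h => c2 fun x hx => h x (h3 (h4 hx)) with e4 | e4
  · obtain ⟨ψ, g1, g2, g3⟩ := KF χ4 c1 e4 _ inferInstance (h4.trans h3) c2 ξa a1 a2
    rcases hF' ψ g1 fun h => g2 fun x hx => h x (h3 (h4 hx)) with e5 | e5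
    · exact v2 (e5 ▸ g3 v (a3 ▸ v1))
    · exact b3 (by rw [b6.resolve_left (e4 ▸ b7), ← e5]; exact b4 ψ g1 g2)
  have e3 : charDegree χ3 = a := b6.resolve_right (e4 ▸ b7)
  have hqa : q ∣ a := e3 ▸ hqd χ3 b1 b5
  have hw' : ∀ ξ, IsIrrCharacter G ξ → Kr ξ F → charDegree ξ ≠ w := fun ξ d1 d2 d3 => by
    obtain ⟨ψ, g1, g2, g3⟩ := KF χ3 b1 e3 _ inferInstance le_rfl b5 ξ d1 d2
    rcases hF' ψ g1 g2 with e5 | e5
    · refine b3 ((pow_dvd_pow q (e + 1).le_succ).trans ?_)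
      rw [e3, ← e5]; exact g3 _ (by rw [d3, ← e4]; exact c3)
    · obtain ⟨u, u1, u2⟩ := ex_val s.hq d1.charDegree_pos.ne'
      exact u2 (by rw [d3, ← e5]; exact g3 u u1)
  by_cases hB : ∃ ξ, IsIrrCharacter G ξ ∧ Kr ξ F ∧ charDegree ξ = b
  · obtain ⟨ξ, d1, d2, d3⟩ := hB
    rcases hw with ⟨e5, e6⟩ | ⟨-, e6⟩
    · exact s.caseB hqa (by rw [← e6, ← e4]; exact (dvd_pow_self q e.succ_ne_zero).trans c3)
        (e5 ▸ x2) d1 d2 d3
    · exact hw' ξ d1 d2 (d3.trans e6.symm)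
  · exact s.fin hqa (fun ξ d1 d2 d3 => hB ⟨ξ, d1, d2, d3⟩) hF' b1 b5 e3

end Su

end Cfsg.Lib.Gar
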